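import Groth.Agent.L20.QfRefine.Fppf
import Groth.Agent.L28.VTop.Val
import Groth.Agent.S0406
import Mathlib.RingTheory.Flat.TorsionFree
import Mathlib.RingTheory.Flat.FaithfullyFlat.Algebra
import Mathlib.RingTheory.Valuation.ValuationRing
import Mathlib.RingTheory.MvPolynomial.Basic
import Mathlib.AlgebraicGeometry.Morphisms.Flat
import Mathlib.AlgebraicGeometry.Morphisms.Finite

/-!
# Solutions over valuation rings in which all monic polynomials have roots
-/

set_option autoImplicit false
set_option backward.isDefEq.respectTransparency false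
set_option backward.isDefEq.respectTransparency.types false
set_option linter.style.haveILetI false

universe u v

open CategoryTheory AlgebraicGeometry Polynomial

noncomputable section

namespace Groth.L23.VRefine

/-- every monic polynomial of positive degree has a root -/
def HasMonicRoots (V : Type*) [CommRing V] : Prop :=
  ∀ p : V[X], p.Monic → p.natDegree ≠ 0 → ∃ x, p.IsRoot x

theorem mem_range_of_isIntegral {V B : Type*} [CommRing V] [Nontrivial V] [CommRing B] [IsDomain B] [Algebra V B]
    (hV : HasMonicRoots V) (b : B) (hb : IsIntegral V b) : b ∈ Set.range (algebraMap V B) := by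
  obtain ⟨p, hp, hpb⟩ := hb
  suffices key : ∀ (n : ℕ) (p : V[X]), p.Monic → p.natDegree = n → Polynomial.eval₂ (algebraMap V B) b p = 0 →
      b ∈ Set.range (algebraMap V B) from key _ p hp rfl hpb
  intro n
  induction n with
  | zero =>
    intro p hp hn h
    rw [Polynomial.eq_one_of_monic_natDegree_zero hp hn, Polynomial.eval₂_one] at h
    exact absurd h one_ne_zero
  | succ n ih =>
    intro p hp hn h
    obtain ⟨x, hx⟩ := hV p hp (by omega)
    let p' := p /ₘ (Polynomial.X - Polynomial.C x)
    have hfac : (Polynomial.X - Polynomial.C x) * p' = p := Polynomial.mul_divByMonic_eq_iff_isRoot.2 hx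
    have hp' : p'.Monic := (Polynomial.monic_X_sub_C x).of_mul_monic_left (hfac.symm ▸ hp)
    have hn' : p'.natDegree = n := by
      have e := congrArg Polynomial.natDegree hfac
      rw [(Polynomial.monic_X_sub_C x).natDegree_mul hp', Polynomial.natDegree_X_sub_C, hn] at e
      omega
    rw [← hfac, Polynomial.eval₂_mul] at h
    rcases mul_eq_zero.1 h with h | h
    · rw [Polynomial.eval₂_sub, Polynomial.eval₂_X, Polynomial.eval₂_C, sub_eq_zero] at h
      exact ⟨x, h.symm⟩
    · exact ih p' hp' hn' h

theorem exists_hom_of_finite {V B : Type*} [CommRing V] [IsDomain V] [CommRing B] [Algebra V B] [Module.Finite V B]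
    (hV : HasMonicRoots V) (hs : Function.Surjective (PrimeSpectrum.comap (algebraMap V B))) :
    Nonempty (B →ₐ[V] V) := by
  obtain ⟨q, hq⟩ := hs ⟨⊥, Ideal.isPrime_bot⟩
  let C := B ⧸ q.asIdeal
  haveI : IsDomain C := Ideal.Quotient.isDomain q.asIdeal
  have hinj : Function.Injective (algebraMap V C) := by
    rw [RingHom.injective_iff_ker_eq_bot]
    ext x
    rw [RingHom.mem_ker]
    show Ideal.Quotient.mk q.asIdeal (algebraMap V B x) = 0 ↔ _
    rw [Ideal.Quotient.eq_zero_iff_mem]
    exact (Ideal.mem_comap.symm).trans (iff_of_eq (congrArg (fun P : PrimeSpectrum V => x ∈ P.asIdeal) hq))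
  have hsurj : Function.Surjective (algebraMap V C) := fun c =>
    mem_range_of_isIntegral hV c (Algebra.IsIntegral.isIntegral c)
  let e : V ≃ₐ[V] C := AlgEquiv.ofBijective (Algebra.ofId V C) ⟨hinj, hsurj⟩
  exact ⟨e.symm.toAlgHom.comp (Ideal.Quotient.mkₐ V q.asIdeal)⟩

/-- a finite type algebra with a point in an extension has a point -/
theorem exists_hom_of_extension {V D W : Type u} [CommRing V] [IsDomain V] [ValuationRing V] [CommRing D]
    [Algebra V D] [Algebra.FiniteType V D] [CommRing W] [IsLocalRing W] (hV : HasMonicRoots V) (ψ : D →+* W)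
    (hψ : Function.Injective ψ) [IsDomain W] (hinj : Function.Injective (ψ.comp (algebraMap V D)))
    (hloc : IsLocalHom (ψ.comp (algebraMap V D))) : Nonempty (D →+* V) ∧ ∃ χ : D →+* V, χ.comp (algebraMap V D) = .id V := by
  haveI : IsDomain D := hψ.isDomain ψ
  haveI : Module.IsTorsionFree V D := by
    haveI : FaithfulSMul V D := (faithfulSMul_iff_algebraMap_injective V D).2 fun a b h => hinj (congrArg ψ h)
    infer_instance
  haveI : Module.Flat V D := Module.Flat.flat_iff_torsion_eq_bot_of_isBezout.2
    ((Submodule.isTorsionFree_iff_torsion_eq_bot).1 inferInstance)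
  haveI : Algebra.FinitePresentation V D := Groth.Agent.S0406.result
  haveI : Module.FaithfullyFlat V D := ⟨fun m hm htop => by
    have hle : Ideal.map (algebraMap V D) m ≤ Ideal.comap ψ (IsLocalRing.maximalIdeal W) := by
      rw [Ideal.map_le_iff_le_comap, Ideal.comap_comap, IsLocalRing.eq_maximalIdeal hm]
      intro x hx hu
      exact hx (hloc.map_nonunit x hu)
    have h1 : Ideal.map (algebraMap V D) m = ⊤ := by
      rw [eq_top_iff]
      intro d _
      have := htop.ge (Submodule.mem_top (x := d))
      rw [Ideal.smul_top_eq_map] at this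
      exact this
    exact (Ideal.IsPrime.comap ψ).ne_top (top_le_iff.1 (h1 ▸ hle))⟩
  let g := Spec.map (CommRingCat.ofHom (algebraMap V D))
  obtain ⟨hf, hs⟩ : Flat g ∧ Surjective g := (flat_and_surjective_SpecMap_iff _).2
    (show (algebraMap V D).FaithfullyFlat from RingHom.faithfullyFlat_algebraMap_iff.2 inferInstance)
  haveI : LocallyOfFinitePresentation g :=
    (HasRingHomProperty.Spec_iff (P := @LocallyOfFinitePresentation)).2
      (RingHom.finitePresentation_algebraMap.2 inferInstance)
  obtain ⟨S', π, hπs, hπf, -, hsec⟩ := Groth.L20.QfRefine.exists_finite_dominating g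
  haveI := hπf
  haveI := hπs
  haveI : IsAffine S' := isAffine_of_isAffineHom π
  let B := Γ(S', ⊤)
  let β : CommRingCat.of V ⟶ B := Spec.preimage (S'.isoSpec.inv ≫ π)
  letI : Algebra V B := β.hom.toAlgebra
  have hb : Spec.map β = S'.isoSpec.inv ≫ π := Spec.map_preimage _
  haveI : Module.Finite V B := by
    have : IsFinite (Spec.map β) := hb ▸ inferInstance
    exact RingHom.finite_algebraMap.1 ((IsFinite.SpecMap_iff _).1 this)
  have hsb : Function.Surjective (PrimeSpectrum.comap (algebraMap V B)) := by
    have : Surjective (Spec.map β) := hb ▸ inferInstance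
    exact this.surj
  obtain ⟨χ⟩ := exists_hom_of_finite hV hsb
  let σ : Spec (CommRingCat.of V) ⟶ S' := Spec.map (CommRingCat.ofHom χ.toRingHom) ≫ S'.isoSpec.inv
  have hσ : σ ≫ π = 𝟙 _ := by
    rw [Category.assoc, ← hb, ← Spec.map_comp, ← Spec.map_id]
    congr 1
    ext x
    exact χ.commutes x
  obtain ⟨O, k, hO, hk⟩ := hsec (σ (Groth.L28.VTop.clo (CommRingCat.of V)))
  obtain ⟨σ', hσ'⟩ := Groth.L28.VTop.exists_lift_of_closedPoint O.ι σ (by rw [Scheme.Opens.range_ι]; exact hO)
  have key : CommRingCat.ofHom (algebraMap V D) ≫ Spec.preimage (σ' ≫ k) = 𝟙 _ := by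
    apply Spec.map_injective
    rw [Spec.map_comp, Spec.map_preimage, Category.assoc, hk, ← Category.assoc, hσ', hσ, Spec.map_id]
  exact ⟨⟨(Spec.preimage (σ' ≫ k)).hom⟩, (Spec.preimage (σ' ≫ k)).hom, congrArg CommRingCat.Hom.hom key⟩

/-- polynomial equations with a solution in an extension have a solution -/
theorem exists_solution_of_extension {V W : Type u} [CommRing V] [IsDomain V] [ValuationRing V] [CommRing W]
    [IsDomain W] [IsLocalRing W] (hV : HasMonicRoots V) (φ : V →+* W) (hinj : Function.Injective φ)
    (hloc : IsLocalHom φ) {m : ℕ} (t : Fin m → W) :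
    ∃ t' : Fin m → V, ∀ F : MvPolynomial (Fin m) V, MvPolynomial.eval₂ φ t F = 0 → MvPolynomial.eval t' F = 0 := by
  letI : Algebra V W := φ.toAlgebra
  let D := (MvPolynomial.aeval t : MvPolynomial (Fin m) V →ₐ[V] W).range
  let π := (MvPolynomial.aeval t : MvPolynomial (Fin m) V →ₐ[V] W).rangeRestrict
  have hπ : Function.Surjective π := AlgHom.rangeRestrict_surjective _
  haveI : Algebra.FiniteType V D := Algebra.FiniteType.of_surjective π hπ
  have hc : (D.val : D →+* W).comp (algebraMap V D) = φ := RingHom.ext fun _ => rfl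
  obtain ⟨-, χ, hχ⟩ := exists_hom_of_extension hV (D.val : D →+* W) Subtype.val_injective (hc.symm ▸ hinj) (hc.symm ▸ hloc)
  refine ⟨fun i => χ (π (MvPolynomial.X i)), fun F hF => ?_⟩
  have h1 : π F = 0 := Subtype.ext hF
  have h2 : ∀ G : MvPolynomial (Fin m) V, χ (π G) = MvPolynomial.eval (fun i => χ (π (MvPolynomial.X i))) G := by
    intro G
    have : χ.comp (π : MvPolynomial (Fin m) V →+* D) = MvPolynomial.eval (fun i => χ (π (MvPolynomial.X i))) := by
      refine MvPolynomial.ringHom_ext (fun r => ?_) (fun i => ?_)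
      · rw [MvPolynomial.eval_C]
        exact (congrArg χ (π.commutes r)).trans (RingHom.congr_fun hχ r)
      · rw [MvPolynomial.eval_X]
        rfl
    exact RingHom.congr_fun this G
  rw [← h2, h1, map_zero]

end Groth.L23.VRefine

end
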