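import Groth.Agent.L23.VRefine.Dominate
import Groth.Agent.L23.VRefine.Section
import Groth.Agent.L28.VTop.Cover

/-!
# V coverings by locally finitely presented morphisms are refined by proper surjections of finite presentation
-/

set_option autoImplicit false
set_option backward.isDefEq.respectTransparency false
set_option backward.isDefEq.respectTransparency.types false
set_option linter.style.haveILetI false
set_option maxHeartbeats 800000

universe w u

open CategoryTheory CategoryTheory.Limits AlgebraicGeometry Opposite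

noncomputable section

namespace Groth.L23.VRefine

theorem eq_toSpecΓ_toΓ {R : CommRingCat.{u}} {W : Scheme.{u}} (f : W ⟶ Spec R) :
    f = W.toSpecΓ ≫ Spec.map (CommRingCat.ofHom (toΓ f)) := by
  show f = W.toSpecΓ ≫ Spec.map ((Scheme.ΓSpecIso R).inv ≫ f.appTop)
  rw [Spec.map_comp, ← Scheme.toSpecΓ_naturality_assoc, toSpecΓ_SpecMap_ΓSpecIso_inv, Category.comp_id]

theorem toΓ_comp_SpecMap {R R' : CommRingCat.{u}} {W : Scheme.{u}} (f : W ⟶ Spec R) (φ : R' ⟶ R) :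
    toΓ (f ≫ Spec.map φ) = (toΓ f).comp φ.hom := by
  rw [toΓ_comp, toΓ_SpecMap, ← RingHom.comp_assoc]
  rfl

theorem finitePresentation_toΓ {R : CommRingCat.{u}} {W : Scheme.{u}} [IsAffine W] (f : W ⟶ Spec R)
    [LocallyOfFinitePresentation f] : (toΓ f).FinitePresentation := by
  have h : Spec.map (CommRingCat.ofHom (toΓ f)) = W.isoSpec.inv ≫ f := by
    conv_rhs => rw [eq_toSpecΓ_toΓ f]
    rw [← Scheme.isoSpec_hom, Iso.inv_hom_id_assoc]
  exact (HasRingHomProperty.Spec_iff (P := @LocallyOfFinitePresentation)).1 (h ▸ inferInstance)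

/-- a hom into the sections over the source of an affine -/
theorem exists_presentation {R : CommRingCat.{u}} {W : Scheme.{u}} [IsAffine W] (f : W ⟶ Spec R)
    [LocallyOfFinitePresentation f] :
    ∃ (n : ℕ) (t : Fin n → Γ(W, ⊤)) (s : ℕ) (P : Fin s → MvPolynomial (Fin n) R),
      (∀ j, MvPolynomial.eval₂ (toΓ f) t (P j) = 0) ∧
      ∀ (Y : Scheme.{u}) (g : Y ⟶ Spec R) (t' : Fin n → Γ(Y, ⊤)),
        (∀ j, MvPolynomial.eval₂ (toΓ g) t' (P j) = 0) → ∃ h : Y ⟶ W, h ≫ f = g := by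
  letI : Algebra R Γ(W, ⊤) := (toΓ f).toAlgebra
  haveI : Algebra.FinitePresentation R Γ(W, ⊤) := finitePresentation_toΓ f
  obtain ⟨n, π, hπ, hker⟩ := Algebra.FinitePresentation.out (R := R) (A := Γ(W, ⊤))
  obtain ⟨s, P, hP⟩ := Submodule.fg_iff_exists_fin_generating_family.1 hker
  have hev : ∀ q : MvPolynomial (Fin n) R, π q = MvPolynomial.eval₂ (toΓ f) (fun i => π (MvPolynomial.X i)) q := by
    intro q
    conv_lhs => rw [MvPolynomial.aeval_unique π]
    rfl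
  have hPk : ∀ j, π (P j) = 0 := fun j => by
    have h1 : P j ∈ RingHom.ker π.toRingHom := hP ▸ Submodule.subset_span ⟨j, rfl⟩
    exact h1
  refine ⟨n, fun i => π (MvPolynomial.X i), s, P, fun j => (hev _).symm.trans (hPk j), fun Y g t' ht' => ?_⟩
  let ν' : MvPolynomial (Fin n) R →+* Γ(Y, ⊤) := MvPolynomial.eval₂Hom (toΓ g) t'
  have hle : RingHom.ker π.toRingHom ≤ RingHom.ker ν' := by
    refine le_trans (le_of_eq hP.symm) (Ideal.span_le.2 ?_)
    rintro _ ⟨j, rfl⟩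
    exact ht' j
  let ν : Γ(W, ⊤) →+* Γ(Y, ⊤) := π.toRingHom.liftOfSurjective hπ ⟨ν', hle⟩
  have hν : ν.comp (toΓ f) = toΓ g := RingHom.ext fun r => by
    have h1 : π (MvPolynomial.C r) = toΓ f r := π.commutes r
    show ν (toΓ f r) = toΓ g r
    rw [← h1]
    exact (RingHom.liftOfSurjective_comp_apply _ _ _ _).trans (MvPolynomial.eval₂Hom_C _ _ r)
  refine ⟨Y.toSpecΓ ≫ Spec.map (CommRingCat.ofHom ν) ≫ W.isoSpec.inv, ?_⟩
  conv_lhs => rw [eq_toSpecΓ_toΓ f]
  rw [Category.assoc, Category.assoc, ← Scheme.isoSpec_hom (X := W), Iso.inv_hom_id_assoc, ← Spec.map_comp,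
    ← CommRingCat.ofHom_comp, hν, ← eq_toSpecΓ_toΓ g]

variable {R : CommRingCat.{u}} {ι : Type} [Finite ι]

/-- finitely many affines over an affine lifting valuations, locally on a proper surjection -/
theorem exists_proper_lift (W : ι → Scheme.{u}) [∀ c, IsAffine (W c)] (f : ∀ c, W c ⟶ Spec R)
    [∀ c, LocallyOfFinitePresentation (f c)]
    (h : ∀ (V : CommRingCat.{u}) [IsDomain V] [ValuationRing V] (g : Spec V ⟶ Spec R),
      ∃ (V' : CommRingCat.{u}) (_ : IsDomain V') (_ : ValuationRing V') (φ : V ⟶ V'),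
        HTop.IsExtVal V V' φ ∧ ∃ (c : ι) (g' : Spec V' ⟶ W c), g' ≫ f c = Spec.map φ ≫ g) :
    ∃ (Y : Scheme.{u}) (g : Y ⟶ Spec R), IsProper g ∧ Surjective g ∧ LocallyOfFinitePresentation g ∧
      ∀ y : Y, ∃ U : Y.Opens, IsAffineOpen U ∧ y ∈ U ∧ ∃ (c : ι) (k : (U : Scheme.{u}) ⟶ W c), k ≫ f c = U.ι ≫ g := by
  choose n t s P hP hlift using fun c => exists_presentation (f c)
  have hgood : Good P := by
    intro V _ _ _ hV ρ
    obtain ⟨V', iD, iV, φ, hφ, c, g', hg'⟩ := h (CommRingCat.of V) (Spec.map (CommRingCat.ofHom ρ))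
    haveI := iD
    haveI := iV
    let χ : Γ(W c, ⊤) →+* V' := (Scheme.ΓSpecIso V').hom.hom.comp g'.appTop.hom
    have hχ : χ.comp (toΓ (f c)) = φ.hom.comp ρ := by
      have e := congrArg toΓ hg'
      rw [toΓ_comp, ← Spec.map_comp, toΓ_SpecMap] at e
      ext r
      have e1 : g'.appTop.hom (toΓ (f c) r) = (Scheme.ΓSpecIso V').inv.hom (φ.hom (ρ r)) := RingHom.congr_fun e r
      show (Scheme.ΓSpecIso V').hom.hom (g'.appTop.hom (toΓ (f c) r)) = _
      rw [e1]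
      exact Iso.inv_hom_id_apply (C := CommRingCat) _ _
    obtain ⟨t', ht'⟩ := exists_solution_of_extension hV φ.hom hφ.1 hφ.2 (fun i => χ (t c i))
    refine ⟨c, t', fun j => ?_⟩
    have e := ht' (MvPolynomial.map ρ (P c j)) (by
      rw [MvPolynomial.eval₂_map, ← hχ, ← Function.comp_def χ, ← MvPolynomial.eval₂_comp_left, hP c j, map_zero])
    rwa [MvPolynomial.eval_map] at e
  obtain ⟨R₀, P₀, ⟨S, hS⟩, hmap, hgood₀⟩ := exists_good_subring P hgood
  haveI : IsNoetherianRing R₀ := hS ▸ is_noetherian_subring_closure _ S.finite_toSet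
  obtain ⟨Y₀, g₀, hp, hs, hY₀⟩ := exists_proper_solutions (R := CommRingCat.of R₀) P₀ hgood₀
  haveI := hp
  haveI := hs
  haveI : LocallyOfFinitePresentation g₀ := inferInstance
  let ι₀ : CommRingCat.of R₀ ⟶ R := CommRingCat.ofHom R₀.subtype
  let Y := pullback g₀ (Spec.map ι₀)
  let g : Y ⟶ Spec R := pullback.snd g₀ (Spec.map ι₀)
  refine ⟨Y, g, inferInstance, inferInstance, inferInstance, fun y => ?_⟩
  obtain ⟨U₀, hyU, c, t₀, ht₀⟩ := hY₀ (pullback.fst g₀ (Spec.map ι₀) y)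
  obtain ⟨U, hU, hyU', hle⟩ := exists_isAffineOpen_mem_and_subset (X := Y) (x := y)
    (U := pullback.fst g₀ (Spec.map ι₀) ⁻¹ᵁ U₀) hyU
  let b : (U : Scheme.{u}) ⟶ U₀ := (pullback.fst g₀ (Spec.map ι₀)).resLE U₀ U hle
  refine ⟨U, hU, hyU', c, hlift c U (U.ι ≫ g) (fun i => b.appTop.hom (t₀ i)) fun j => ?_⟩
  have hsq : (U.ι ≫ g) ≫ Spec.map ι₀ = b ≫ U₀.ι ≫ g₀ := by
    rw [Category.assoc, ← pullback.condition, Scheme.Hom.resLE_comp_ι_assoc]
  have h2 : (toΓ (U.ι ≫ g)).comp R₀.subtype = b.appTop.hom.comp (toΓ (U₀.ι ≫ g₀)) := by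
    rw [← toΓ_comp, ← hsq, toΓ_comp_SpecMap]
    rfl
  rw [← hmap c j, MvPolynomial.eval₂_map, h2, ← Function.comp_def b.appTop.hom, ← MvPolynomial.eval₂_comp_left,
    ht₀ j, map_zero]

/-- Every V covering of an affine scheme by locally finitely presented morphisms is refined, Zariski locally, by a
proper surjection of finite presentation. -/
theorem exists_proper_refining {X : Scheme.{u}} [IsAffine X] (E : PreZeroHypercover.{w} X)
    (hfp : ∀ i, LocallyOfFinitePresentation (E.f i)) (hE : HTop.IsVCover E) :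
    ∃ (Y : Scheme.{u}) (g : Y ⟶ X), IsProper g ∧ Surjective g ∧ LocallyOfFinitePresentation g ∧
      ∀ y : Y, ∃ U : Y.Opens, IsAffineOpen U ∧ y ∈ U ∧
        ∃ (i : E.I₀) (k : (U : Scheme.{u}) ⟶ E.X i), k ≫ E.f i = U.ι ≫ g := by
  obtain ⟨F, hF, href⟩ := Groth.L28.VTop.refinable_of_isVCover hE (𝟙 X)
  haveI := hF.finite_index
  haveI := hF.isAffine_obj
  choose i k hk using href
  choose O hO hxO _ using fun (j : F.I₀) (x : E.X (i j)) =>
    exists_isAffineOpen_mem_and_subset (X := E.X (i j)) (x := x) (U := ⊤) trivial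
  have hcpt : ∀ j, ∃ s : Finset (E.X (i j)), ∀ z : F.X j, ∃ x ∈ s, k j z ∈ O j x := fun j => by
    obtain ⟨s, hs⟩ := (isCompact_range (k j).continuous).elim_finite_subcover
      (fun x => (O j x : Set (E.X (i j)))) (fun x => (O j x).isOpen) (fun x _ => Set.mem_iUnion.2 ⟨x, hxO j x⟩)
    exact ⟨s, fun z => by simpa using hs ⟨z, rfl⟩⟩
  choose s hs using hcpt
  haveI : Finite (Σ j : F.I₀, ↥(s j)) := inferInstance
  let e := (Finite.equivFin (Σ j : F.I₀, ↥(s j))).symm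
  let W : Fin (Nat.card (Σ j : F.I₀, ↥(s j))) → Scheme.{u} := fun c => (O (e c).1 (e c).2.1 : Scheme.{u})
  haveI : ∀ c, IsAffine (W c) := fun c => hO _ _
  let f : ∀ c, W c ⟶ Spec Γ(X, ⊤) := fun c => (O (e c).1 (e c).2.1).ι ≫ E.f (i (e c).1) ≫ X.isoSpec.hom
  haveI : ∀ c, LocallyOfFinitePresentation (f c) := fun c => by
    haveI := hfp (i (e c).1)
    infer_instance
  obtain ⟨Y, g, hg1, hg2, hg3, hY⟩ := exists_proper_lift W f fun V _ _ g => by
    obtain ⟨V', iD, iV, φ, hφ, j, g', hg'⟩ := hF.lift V (g ≫ X.isoSpec.inv)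
    obtain ⟨x, hxs, hx⟩ := hs j (g' (Groth.L28.VTop.clo V'))
    obtain ⟨l, hl⟩ := Groth.L28.VTop.exists_lift_of_closedPoint (O j x).ι (g' ≫ k j) (by
      rw [Scheme.Opens.range_ι, Scheme.Hom.comp_apply]; exact hx)
    obtain ⟨c, hc⟩ := e.surjective ⟨j, ⟨x, hxs⟩⟩
    suffices key : ∀ p : (Σ j : F.I₀, ↥(s j)), p = ⟨j, ⟨x, hxs⟩⟩ →
        ∃ l' : Spec V' ⟶ (O p.1 p.2.1 : Scheme.{u}),
          l' ≫ (O p.1 p.2.1).ι ≫ E.f (i p.1) ≫ X.isoSpec.hom = Spec.map φ ≫ g by
      exact ⟨V', iD, iV, φ, hφ, c, key _ hc⟩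
    rintro p rfl
    refine ⟨l, ?_⟩
    rw [reassoc_of% hl, ← Category.assoc (k j), hk j, Category.comp_id, reassoc_of% hg', Iso.inv_hom_id,
      Category.comp_id]
  refine ⟨Y, g ≫ X.isoSpec.inv, inferInstance, inferInstance, inferInstance, fun y => ?_⟩
  obtain ⟨U, hU, hyU, c, q, hq⟩ := hY y
  refine ⟨U, hU, hyU, i (e c).1, q ≫ (O (e c).1 (e c).2.1).ι, ?_⟩
  rw [← cancel_mono X.isoSpec.hom]
  simp only [Category.assoc, Iso.inv_hom_id, Category.comp_id]
  exact hq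

end Groth.L23.VRefine

end
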