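import Groth.Agent.L23.VRefine.Refine
import Groth.Agent.L28.VTop.Sheaf
import Mathlib.AlgebraicGeometry.AffineTransitionLimit

/-!
# Standard h coverings descend along limits of affine schemes
-/

set_option autoImplicit false
set_option backward.isDefEq.respectTransparency false
set_option backward.isDefEq.respectTransparency.types false
set_option linter.style.haveILetI false
set_option maxHeartbeats 800000

universe w u

open CategoryTheory CategoryTheory.Limits AlgebraicGeometry Opposite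

noncomputable section

namespace Groth.L23.VRefine

variable {R : CommRingCat.{u}}

theorem toΓ_toSpecΓ {Y : Scheme.{u}} {A : CommRingCat.{u}} (φ : A ⟶ Γ(Y, ⊤)) :
    toΓ (Y.toSpecΓ ≫ Spec.map φ) = φ.hom := by
  show ((Scheme.ΓSpecIso A).inv ≫ (Y.toSpecΓ ≫ Spec.map φ).appTop).hom = φ.hom
  rw [Scheme.Hom.comp_appTop, Scheme.toSpecΓ_appTop, ← Category.assoc, ← Scheme.ΓSpecIso_inv_naturality,
    Category.assoc, Iso.inv_hom_id, Category.comp_id]

theorem toΓ_injective {Y : Scheme.{u}} {f g : Y ⟶ Spec R} (h : toΓ f = toΓ g) : f = g := by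
  rw [eq_toSpecΓ_toΓ f, eq_toSpecΓ_toΓ g, h]

/-- a presentation of an affine scheme over an affine by equations -/
structure Presented {W : Scheme.{u}} (f : W ⟶ Spec R) {n s : ℕ} (t : Fin n → Γ(W, ⊤))
    (P : Fin s → MvPolynomial (Fin n) R) : Prop where
  zero : ∀ j, MvPolynomial.eval₂ (toΓ f) t (P j) = 0
  lift : ∀ (Y : Scheme.{u}) (g : Y ⟶ Spec R) (t' : Fin n → Γ(Y, ⊤)),
    (∀ j, MvPolynomial.eval₂ (toΓ g) t' (P j) = 0) → ∃ h : Y ⟶ W, h ≫ f = g ∧ ∀ k, h.appTop.hom (t k) = t' k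
  ext : ∀ (Y : Scheme.{u}) (h h' : Y ⟶ W), h ≫ f = h' ≫ f → (∀ k, h.appTop.hom (t k) = h'.appTop.hom (t k)) → h = h'

theorem presented_of_surjective {W : Scheme.{u}} [IsAffine W] (f : W ⟶ Spec R) {n s : ℕ}
    (P : Fin s → MvPolynomial (Fin n) R) (π : MvPolynomial (Fin n) R →+* Γ(W, ⊤)) (hπ : Function.Surjective π)
    (hC : ∀ r, π (MvPolynomial.C r) = toΓ f r) (hker : RingHom.ker π = Ideal.span (Set.range P)) :
    Presented f (fun k => π (MvPolynomial.X k)) P := by
  have hev : ∀ q, π q = MvPolynomial.eval₂ (toΓ f) (fun i => π (MvPolynomial.X i)) q := fun q =>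
    RingHom.congr_fun (MvPolynomial.ringHom_ext (f := π)
      (g := MvPolynomial.eval₂Hom (toΓ f) (fun i => π (MvPolynomial.X i))) (fun r => by simpa using hC r)
      (fun i => by simp)) q
  refine ⟨fun j => ?_, fun Y g t' ht' => ?_, fun Y h h' hf ht => ?_⟩
  · rw [← hev, ← RingHom.mem_ker, hker]
    exact Ideal.subset_span ⟨j, rfl⟩
  · let ν' : MvPolynomial (Fin n) R →+* Γ(Y, ⊤) := MvPolynomial.eval₂Hom (toΓ g) t'
    have hle : RingHom.ker π ≤ RingHom.ker ν' := by
      rw [hker]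
      refine Ideal.span_le.2 ?_
      rintro _ ⟨j, rfl⟩
      exact ht' j
    let ν : Γ(W, ⊤) →+* Γ(Y, ⊤) := π.liftOfSurjective hπ ⟨ν', hle⟩
    have hν : ∀ q, ν (π q) = ν' q := fun q => RingHom.liftOfSurjective_comp_apply _ _ _ q
    let h : Y ⟶ W := Y.toSpecΓ ≫ Spec.map (CommRingCat.ofHom ν) ≫ W.isoSpec.inv
    have e1 : h ≫ W.isoSpec.hom = Y.toSpecΓ ≫ Spec.map (CommRingCat.ofHom ν) := by simp [h]
    have e2 : h.appTop.hom = ν := by
      have e := congrArg toΓ e1
      rw [toΓ_toSpecΓ, toΓ_comp] at e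
      refine RingHom.ext fun x => ?_
      have hid : toΓ W.isoSpec.hom x = x := by
        have := toΓ_toSpecΓ (Y := W) (𝟙 Γ(W, ⊤))
        rw [Spec.map_id, Category.comp_id, ← Scheme.isoSpec_hom] at this
        exact RingHom.congr_fun this x
      have e' := RingHom.congr_fun e x
      rw [RingHom.comp_apply, hid] at e'
      exact e'
    refine ⟨h, toΓ_injective (RingHom.ext fun r => ?_), fun k => ?_⟩
    · rw [toΓ_comp, RingHom.comp_apply, e2, ← hC, hν]
      exact MvPolynomial.eval₂Hom_C _ _ r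
    · rw [e2, hν]
      exact MvPolynomial.eval₂Hom_X' _ _ k
  · have key : h.appTop.hom.comp π = h'.appTop.hom.comp π := by
      refine MvPolynomial.ringHom_ext (fun r => ?_) ht
      have e := RingHom.congr_fun (congrArg toΓ hf) r
      rw [toΓ_comp, toΓ_comp] at e
      simp only [RingHom.comp_apply, hC]
      exact e
    refine ext_of_isAffine (CommRingCat.hom_ext (RingHom.ext fun x => ?_))
    obtain ⟨q, rfl⟩ := hπ x
    exact RingHom.congr_fun key q

theorem exists_presented {W : Scheme.{u}} [IsAffine W] (f : W ⟶ Spec R) [LocallyOfFinitePresentation f] :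
    ∃ (n s : ℕ) (t : Fin n → Γ(W, ⊤)) (P : Fin s → MvPolynomial (Fin n) R), Presented f t P := by
  letI : Algebra R Γ(W, ⊤) := (toΓ f).toAlgebra
  haveI : Algebra.FinitePresentation R Γ(W, ⊤) := finitePresentation_toΓ f
  obtain ⟨n, π, hπ, hker⟩ := Algebra.FinitePresentation.out (R := R) (A := Γ(W, ⊤))
  obtain ⟨s, P, hP⟩ := Submodule.fg_iff_exists_fin_generating_family.1 hker
  exact ⟨n, s, _, P, presented_of_surjective f P π.toRingHom hπ (fun r => π.commutes r) hP.symm⟩

theorem exists_model {n s : ℕ} (P : Fin s → MvPolynomial (Fin n) R) :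
    ∃ (W : Scheme.{u}) (_ : IsAffine W) (f : W ⟶ Spec R) (_ : LocallyOfFinitePresentation f) (t : Fin n → Γ(W, ⊤)),
      Presented f t P := by
  let A := MvPolynomial (Fin n) R ⧸ Ideal.span (Set.range P)
  let φ : R ⟶ CommRingCat.of A := CommRingCat.ofHom (algebraMap R A)
  let W := Spec (CommRingCat.of A)
  haveI : Algebra.FinitePresentation R A :=
    Algebra.FinitePresentation.quotient ⟨(Set.finite_range P).toFinset, by simp⟩
  have hfp : LocallyOfFinitePresentation (Spec.map φ) :=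
    (HasRingHomProperty.Spec_iff (P := @LocallyOfFinitePresentation)).2 (RingHom.finitePresentation_algebraMap.2 ‹_›)
  let ι := (Scheme.ΓSpecIso (CommRingCat.of A)).inv.hom
  have hι : Function.Bijective ι := ConcreteCategory.bijective_of_isIso (Scheme.ΓSpecIso (CommRingCat.of A)).inv
  let π : MvPolynomial (Fin n) R →+* Γ(W, ⊤) := ι.comp (Ideal.Quotient.mk _)
  refine ⟨W, inferInstanceAs (IsAffine (Spec _)), Spec.map φ, hfp, _, presented_of_surjective (Spec.map φ) P π
    (hι.2.comp Ideal.Quotient.mk_surjective) (fun r => ?_) ?_⟩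
  · rw [toΓ_SpecMap]
    rfl
  · rw [RingHom.ker_comp_of_injective _ hι.1, Ideal.mk_ker]

/-- base change of a presentation -/
theorem isPullback_of_presented {R₀ : CommRingCat.{u}} (ψ : R₀ ⟶ R) {W : Scheme.{u}} {f : W ⟶ Spec R} {W₀ : Scheme.{u}}
    {f₀ : W₀ ⟶ Spec R₀} {n s : ℕ} {t : Fin n → Γ(W, ⊤)} {t₀ : Fin n → Γ(W₀, ⊤)}
    {P : Fin s → MvPolynomial (Fin n) R} {P₀ : Fin s → MvPolynomial (Fin n) R₀} (hP : Presented f t P)
    (hP₀ : Presented f₀ t₀ P₀) (hmap : ∀ j, MvPolynomial.map ψ.hom (P₀ j) = P j) :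
    ∃ b : W ⟶ W₀, IsPullback b f f₀ (Spec.map ψ) := by
  have hsol : ∀ {Y : Scheme.{u}} (g : Y ⟶ Spec R) (t' : Fin n → Γ(Y, ⊤)) (j : Fin s),
      MvPolynomial.eval₂ (toΓ (g ≫ Spec.map ψ)) t' (P₀ j) = MvPolynomial.eval₂ (toΓ g) t' (P j) := fun g t' j => by
    rw [toΓ_comp_SpecMap, ← hmap, MvPolynomial.eval₂_map]
  obtain ⟨b, hb, hbt⟩ := hP₀.lift W (f ≫ Spec.map ψ) t fun j => (hsol f t j).trans (hP.zero j)
  have hex : ∀ c : PullbackCone f₀ (Spec.map ψ), ∃ l : c.pt ⟶ W,
      l ≫ f = c.snd ∧ ∀ k, l.appTop.hom (t k) = c.fst.appTop.hom (t₀ k) := fun c => hP.lift c.pt c.snd _ fun j => by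
    rw [← hsol, ← c.condition, toΓ_comp, ← Function.comp_def c.fst.appTop.hom, ← MvPolynomial.eval₂_comp_left,
      hP₀.zero j, map_zero]
  choose l hl1 hl2 using hex
  refine ⟨b, IsPullback.of_isLimit' ⟨hb⟩ (PullbackCone.IsLimit.mk _ l (fun c => ?_) hl1 fun c m h1 h2 => ?_)⟩
  · refine hP₀.ext _ _ _ ?_ fun k => ?_
    · rw [Category.assoc, hb, ← Category.assoc, hl1, c.condition]
    · rw [Scheme.Hom.comp_appTop, CommRingCat.comp_apply, hbt k, hl2]
  · refine hP.ext _ _ _ (h2.trans (hl1 c).symm) fun k => Eq.trans ?_ (hl2 c k).symm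
    rw [← h1, ← hbt k, Scheme.Hom.comp_appTop]
    rfl

theorem exists_extension_hasMonicRoots (V : Type u) [CommRing V] [IsDomain V] [ValuationRing V] :
    ∃ (V' : CommRingCat.{u}) (_ : IsDomain V') (_ : ValuationRing V') (φ : CommRingCat.of V ⟶ V'),
      HTop.IsExtVal (CommRingCat.of V) V' φ ∧ HasMonicRoots V' := by
  let K := AlgebraicClosure (FractionRing V)
  obtain ⟨A, hA, hloc⟩ := IsLocalRing.exists_factor_valuationRing (algebraMap V K)
  refine ⟨CommRingCat.of A, inferInstanceAs (IsDomain A), inferInstanceAs (ValuationRing A),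
    CommRingCat.ofHom ((algebraMap V K).codRestrict A.toSubring hA), ⟨fun a b hab => ?_, hloc⟩, ?_⟩
  · have hinj : Function.Injective (algebraMap V K) := by
      rw [IsScalarTower.algebraMap_eq V (FractionRing V) K]
      exact (algebraMap (FractionRing V) K).injective.comp (IsFractionRing.injective V (FractionRing V))
    exact hinj (congrArg Subtype.val hab)
  · intro p hp hn
    have hne : (p.map A.subtype).degree ≠ 0 := by
      rw [hp.degree_map, Polynomial.degree_eq_natDegree hp.ne_zero]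
      exact_mod_cast hn
    obtain ⟨x, hx⟩ := IsAlgClosed.exists_root (p.map A.subtype) hne
    obtain ⟨y, hy⟩ := IsIntegrallyClosed.isIntegral_iff.1
      (show IsIntegral A x from ⟨p, hp, by rw [← Polynomial.eval_map]; exact hx⟩)
    refine ⟨y, A.subtype_injective ?_⟩
    rw [map_zero, ← Polynomial.eval₂_at_apply, ← Polynomial.eval_map, show A.subtype y = x from hy]
    exact hx

theorem exists_descend {I : Type u} [SmallCategory I] [IsCofiltered I] (D : I ⥤ Scheme.{u}) [∀ i, IsAffine (D.obj i)]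
    (c : Cone D) (hc : IsLimit c) [IsAffine c.pt] (V : PreZeroHypercover.{w} c.pt) (hV : HTop.IsStandardH V) :
    ∃ (i : I) (W : PreZeroHypercover.{w} (D.obj i)), HTop.IsStandardH W ∧
      ∃ (σ : V.I₀ ≃ W.I₀) (e : ∀ j, V.X j ≅ pullback (c.π.app i) (W.f (σ j))),
        ∀ j, (e j).hom ≫ pullback.fst (c.π.app i) (W.f (σ j)) = V.f j := by
  let R : CommRingCat.{u} := Γ(c.pt, ⊤)
  let iso := c.pt.isoSpec
  haveI := hV.finite_index
  haveI : ∀ j, IsAffine (V.X j) := hV.isAffine_obj
  haveI : ∀ j, LocallyOfFinitePresentation (V.f j) := hV.finitePresentation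
  choose n s t P hP using fun j => exists_presented (V.f j ≫ iso.hom)
  obtain ⟨F, hF, href⟩ := Groth.L28.VTop.refinable_of_isVCover hV.isVCover (𝟙 c.pt)
  have hgood : Good P := by
    intro A _ _ _ hA ρ
    obtain ⟨A', iD, iV, φ, hφ, l, g', hg'⟩ := hF.lift (CommRingCat.of A) (Spec.map (CommRingCat.ofHom ρ) ≫ iso.inv)
    haveI := iD
    haveI := iV
    obtain ⟨j, k, hk⟩ := href l
    have hgk : (g' ≫ k) ≫ V.f j ≫ iso.hom = Spec.map (CommRingCat.ofHom ρ ≫ φ) := by
      rw [Category.assoc, ← Category.assoc k, hk, Category.comp_id, ← Category.assoc g', hg', Category.assoc,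
        Category.assoc, Iso.inv_hom_id, Category.comp_id, Spec.map_comp]
    let χ : Γ(V.X j, ⊤) →+* A' := (Scheme.ΓSpecIso A').hom.hom.comp (g' ≫ k).appTop.hom
    have hχ : χ.comp (toΓ (V.f j ≫ iso.hom)) = φ.hom.comp ρ := by
      have e := congrArg toΓ hgk
      rw [toΓ_comp, toΓ_SpecMap] at e
      ext r
      show (Scheme.ΓSpecIso A').hom.hom ((g' ≫ k).appTop.hom (toΓ (V.f j ≫ iso.hom) r)) = _
      rw [show (g' ≫ k).appTop.hom (toΓ (V.f j ≫ iso.hom) r) = _ from RingHom.congr_fun e r]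
      exact Iso.inv_hom_id_apply (C := CommRingCat) _ _
    obtain ⟨t', ht'⟩ := exists_solution_of_extension hA φ.hom hφ.1 hφ.2 (fun i => χ (t j i))
    refine ⟨j, t', fun m => ?_⟩
    have e := ht' (MvPolynomial.map ρ (P j m)) (by
      rw [MvPolynomial.eval₂_map, ← hχ, ← Function.comp_def χ, ← MvPolynomial.eval₂_comp_left, (hP j).zero m, map_zero])
    rwa [MvPolynomial.eval_map] at e
  obtain ⟨R₀, P₀, ⟨S, hS⟩, hmap, hgood₀⟩ := exists_good_subring P hgood
  let B : CommRingCat.{u} := CommRingCat.of R₀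
  let ψ : B ⟶ R := CommRingCat.ofHom R₀.subtype
  choose W₀ hW₀ f₀ hf₀ t₀ hP₀ using fun j => exists_model (R := B) (P₀ j)
  haveI : LocallyOfFinitePresentation (terminal.from (Spec B)) := by
    haveI : IsNoetherianRing (ULift.{u} ℤ) := isNoetherianRing_of_ringEquiv ℤ ULift.ringEquiv.symm
    let p : Spec B ⟶ Spec (CommRingCat.of (ULift.{u} ℤ)) :=
      Spec.map (CommRingCat.ofHom ((Int.castRingHom R₀).comp ULift.ringEquiv.toRingHom))
    haveI : LocallyOfFiniteType p := (HasRingHomProperty.Spec_iff (P := @LocallyOfFiniteType)).2 (by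
      refine RingHom.FiniteType.comp ?_ (RingHom.FiniteType.of_surjective _ ULift.ringEquiv.surjective)
      show (algebraMap ℤ R₀).FiniteType
      refine RingHom.finiteType_algebraMap.2 ⟨?_⟩
      refine Subalgebra.fg_def.2 ⟨Subtype.val ⁻¹' (S : Set R), (S.finite_toSet).preimage Subtype.val_injective.injOn, ?_⟩
      rw [Algebra.adjoin_int]
      refine Algebra.eq_top_iff.2 fun x => ?_
      show x ∈ Subring.closure _
      obtain ⟨x, hx⟩ := x
      have hx' : x ∈ Subring.closure (S : Set R) := hS ▸ hx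
      induction hx' using Subring.closure_induction with
      | mem y hy => exact Subring.subset_closure hy
      | zero => exact zero_mem _
      | one => exact one_mem _
      | add a b ha hb ih1 ih2 =>
        exact add_mem (ih1 (hS ▸ ha)) (ih2 (hS ▸ hb))
      | neg a ha ih => exact neg_mem (ih (hS ▸ ha))
      | mul a b ha hb ih1 ih2 => exact mul_mem (ih1 (hS ▸ ha)) (ih2 (hS ▸ hb)))
    haveI : LocallyOfFinitePresentation p := inferInstance
    rw [show terminal.from (Spec B) = p ≫ (specULiftZIsTerminal.uniqueUpToIso terminalIsTerminal).hom from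
      terminal.hom_ext _ _]
    infer_instance
  let a : c.pt ⟶ Spec B := iso.hom ≫ Spec.map ψ
  obtain ⟨i, g, hg, -⟩ := Scheme.exists_π_app_comp_eq_of_locallyOfFinitePresentation D
    (S := ⊤_ Scheme.{u}) { app := fun i => terminal.from _ } (terminal.from (Spec B)) c hc a
    (by ext i; exact terminal.hom_ext _ _)
  let E₀ : PreZeroHypercover.{w} (Spec B) := { I₀ := V.I₀, X := W₀, f := f₀ }
  have hE₀ : HTop.IsStandardV E₀ := ⟨inferInstance, hV.finite_index, hW₀, fun A _ _ q => by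
    obtain ⟨A', iD, iV, φ, hφ, hA'⟩ := exists_extension_hasMonicRoots A
    haveI := iD
    haveI := iV
    obtain ⟨ρ, hρ⟩ : ∃ ρ : B ⟶ A, Spec.map ρ = q := ⟨Spec.preimage q, Spec.map_preimage _⟩
    obtain ⟨j, x, hx⟩ := hgood₀ A' hA' (φ.hom.comp ρ.hom)
    obtain ⟨q', hq', -⟩ := (hP₀ j).lift (Spec A') (Spec.map φ ≫ q) (fun k => (Scheme.ΓSpecIso A').inv.hom (x k))
      fun m => by
        rw [← hρ, ← Spec.map_comp, toΓ_SpecMap, ← Function.comp_def (Scheme.ΓSpecIso A').inv.hom,
          ← MvPolynomial.eval₂_comp_left]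
        exact (congrArg _ (hx m)).trans (map_zero _)
    exact ⟨A', iD, iV, φ, hφ, j, q', hq'⟩⟩
  have hst := Groth.L28.VTop.isStandardV_pullback₁ g hE₀
  refine ⟨i, E₀.pullback₁ g, ⟨inferInstance, hst.finite_index, hst.isAffine_obj,
    fun j => (haveI := hf₀ j; inferInstanceAs (LocallyOfFinitePresentation (pullback.fst g (f₀ j)))),
    Groth.L28.VTop.isVCover_of_isStandardV hst⟩, Equiv.refl _, ?_⟩
  have hpb : ∀ j : V.I₀, ∃ b : V.X j ⟶ W₀ j, IsPullback b (V.f j) (f₀ j) a := fun j => by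
    obtain ⟨b, hb⟩ := isPullback_of_presented ψ (hP j) (hP₀ j) (hmap j)
    exact ⟨b, hb.of_iso (Iso.refl _) (Iso.refl _) iso.symm (Iso.refl _) (by simp) (by simp) (by simp)
      (by simp [a])⟩
  choose b hb using hpb
  have hb' : ∀ j, ∃ b' : V.X j ⟶ pullback g (f₀ j), IsPullback (V.f j) b' (c.π.app i) (pullback.fst g (f₀ j)) := fun j => by
    let b' : V.X j ⟶ pullback g (f₀ j) := pullback.lift (V.f j ≫ c.π.app i) (b j) (by
      rw [Category.assoc, hg, (hb j).w])
    refine ⟨b', (IsPullback.of_bot (v₁₁ := b') (v₁₂ := c.π.app i) (v₂₁ := pullback.snd g (f₀ j)) (v₂₂ := g)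
      ?_ ?_ (IsPullback.of_hasPullback g (f₀ j)).flip.flip)⟩
    · rw [pullback.lift_snd, hg]
      exact (hb j).flip
    · exact (pullback.lift_fst _ _ _).symm
  choose b' hb'' using hb'
  exact ⟨fun j => (hb'' j).isoPullback, fun j => (hb'' j).isoPullback_hom_fst⟩

end Groth.L23.VRefine

end
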