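import Groth.Agent.L23.VRefine.Limit
import Groth.Agent.L13.Nagata.Affine
import Groth.Agent.L28.VTop.Val
import Groth.Agent.L28.VTop.Proper
import Mathlib.AlgebraicGeometry.Noetherian
import Mathlib.AlgebraicGeometry.IdealSheaf.Subscheme
import Mathlib.RingTheory.Ideal.MinimalPrime.Noetherian

/-!
# Solvability over valuation rings gives solutions Zariski locally on a proper surjection
-/

set_option autoImplicit false
set_option backward.isDefEq.respectTransparency false
set_option backward.isDefEq.respectTransparency.types false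
set_option linter.style.haveILetI false

universe u

open CategoryTheory CategoryTheory.Limits AlgebraicGeometry Opposite

noncomputable section

namespace Groth.L23.VRefine

variable {R : CommRingCat.{u}}

/-- the ring map of a morphism to an affine scheme -/
def toΓ {W : Scheme.{u}} (f : W ⟶ Spec R) : R →+* Γ(W, ⊤) := ((Scheme.ΓSpecIso R).inv ≫ f.appTop).hom

theorem toΓ_comp {W W' : Scheme.{u}} (k : W' ⟶ W) (f : W ⟶ Spec R) : toΓ (k ≫ f) = k.appTop.hom.comp (toΓ f) := by
  simp [toΓ, Scheme.Hom.comp_appTop, ← CommRingCat.hom_comp]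

theorem toΓ_SpecMap {A : CommRingCat.{u}} (φ : R ⟶ A) :
    toΓ (Spec.map φ) = (Scheme.ΓSpecIso A).inv.hom.comp φ.hom := by
  rw [toΓ, ← CommRingCat.hom_comp]
  exact congrArg CommRingCat.Hom.hom (Scheme.ΓSpecIso_inv_naturality φ).symm

theorem exists_common {S : Scheme.{u}} {P : Scheme.{u}} (a : P ⟶ S) :
    ∀ (n : ℕ) (Y : Fin n → Scheme.{u}) (p : ∀ c, Y c ⟶ S), (∀ c, IsProper (p c)) →
      ∀ κ : ∀ c, P ⟶ Y c, (∀ c, κ c ≫ p c = a) →
        ∃ (Z : Scheme.{u}) (q : Z ⟶ S) (k : P ⟶ Z), IsProper q ∧ k ≫ q = a ∧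
          ∀ c, ∃ π : Z ⟶ Y c, π ≫ p c = q ∧ k ≫ π = κ c := by
  intro n
  induction n with
  | zero => exact fun Y p _ κ _ => ⟨S, 𝟙 S, a, inferInstance, Category.comp_id a, fun c => c.elim0⟩
  | succ n ih =>
    intro Y p hp κ hκ
    obtain ⟨Z, q, k, hq, hk, hπ⟩ := ih (fun c => Y c.succ) (fun c => p c.succ) (fun c => hp _) (fun c => κ c.succ)
      (fun c => hκ _)
    haveI := hq
    haveI := hp 0
    refine ⟨pullback q (p 0), pullback.fst q (p 0) ≫ q, pullback.lift k (κ 0) (by rw [hk, hκ]), inferInstance,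
      by rw [pullback.lift_fst_assoc, hk], fun c => ?_⟩
    induction c using Fin.cases with
    | zero => exact ⟨pullback.snd _ _, pullback.condition.symm, pullback.lift_snd _ _ _⟩
    | succ c =>
      obtain ⟨π, h1, h2⟩ := hπ c
      exact ⟨pullback.fst _ _ ≫ π, by rw [Category.assoc, h1], by rw [pullback.lift_fst_assoc, h2]⟩

variable {ι : Type} {m s : ι → ℕ} (F : ∀ i, Fin (s i) → MvPolynomial (Fin (m i)) R)

/-- a proper scheme covering `Z` with solutions locally -/
def Covers (Z : Set (PrimeSpectrum R)) : Prop :=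
  ∃ (Y : Scheme.{u}) (g : Y ⟶ Spec R), IsProper g ∧ Z ⊆ Set.range g ∧
    ∀ y : Y, ∃ W : Y.Opens, y ∈ W ∧ ∃ (i : ι) (t : Fin (m i) → Γ(W, ⊤)),
      ∀ j, MvPolynomial.eval₂ (toΓ (W.ι ≫ g)) t (F i j) = 0

variable [IsNoetherianRing R] [Finite ι]

set_option maxHeartbeats 800000 in
theorem covers_component (h : Good F) (p : PrimeSpectrum R) : Covers F (PrimeSpectrum.zeroLocus p.asIdeal) := by
  let D := R ⧸ p.asIdeal
  let K := AlgebraicClosure (FractionRing D)
  let mk : R →+* D := Ideal.Quotient.mk p.asIdeal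
  let FD : ∀ i, Fin (s i) → MvPolynomial (Fin (m i)) D := fun i j => MvPolynomial.map mk (F i j)
  have hD : Good FD := fun V _ _ _ hV ρ => by
    obtain ⟨i, t, ht⟩ := h V hV (ρ.comp mk)
    exact ⟨i, t, fun j => by rw [MvPolynomial.eval₂_map]; exact ht j⟩
  obtain ⟨T, hT, hT'⟩ := exists_finite_solutions FD hD K
  let φ : R →+* K := (algebraMap D K).comp mk
  letI : Algebra R K := φ.toAlgebra
  let S : Scheme.{u} := Spec R
  let P : Scheme.{u} := Spec (CommRingCat.of K)
  let a : P ⟶ S := Spec.map (CommRingCat.ofHom φ)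
  let e := T.equivFin.symm
  let C : Fin T.card → Subalgebra R K := fun c => Algebra.adjoin R (Set.range (e c).1.2)
  let U : Fin T.card → Scheme.{u} := fun c => Spec (CommRingCat.of (C c))
  let g : ∀ c, U c ⟶ S := fun c => Spec.map (CommRingCat.ofHom (algebraMap R (C c)))
  haveI : ∀ c, LocallyOfFiniteType (g c) := fun c => (HasRingHomProperty.Spec_iff (P := @LocallyOfFiniteType)).2
    (RingHom.finiteType_algebraMap.2 ((Subalgebra.fg_iff_finiteType _).1
      (Subalgebra.fg_def.2 ⟨_, Set.finite_range _, rfl⟩)))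
  choose Y j p' hj _hjc hp hjp using fun c => Groth.L13.Nagata.exists_compactification_of_isAffine (g c)
  let u : ∀ c, P ⟶ U c := fun c => Spec.map (CommRingCat.ofHom (C c).val.toRingHom)
  have hu : ∀ c, u c ≫ g c = a := fun c => by
    rw [← Spec.map_comp]
    rfl
  obtain ⟨Z, q, k, hq, hk, hπ⟩ := exists_common a T.card Y p' hp (fun c => u c ≫ j c)
    (fun c => by rw [Category.assoc, hjp, hu])
  haveI := hq
  haveI : QuasiCompact k := by
    haveI : QuasiCompact (k ≫ q) := hk ▸ inferInstance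
    exact QuasiCompact.of_comp k q
  let X := k.image
  let κ : P ⟶ X := k.toImage
  let G : X ⟶ S := k.imageι ≫ q
  have hG : κ ≫ G = a := by rw [← Category.assoc, Scheme.Hom.toImage_imageι, hk]
  haveI : IsProper G := inferInstance
  refine ⟨X, G, inferInstance, ?_, fun x => ?_⟩
  · have hgen : p ∈ Set.range G := ⟨κ (IsLocalRing.closedPoint K), by
      rw [← Scheme.Hom.comp_apply, hG]
      refine PrimeSpectrum.ext ?_
      change Ideal.comap φ (IsLocalRing.maximalIdeal K) = p.asIdeal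
      rw [IsLocalRing.maximalIdeal_eq_bot, ← RingHom.ker_eq_comap_bot]
      ext x
      rw [RingHom.mem_ker]
      have hinj : Function.Injective (algebraMap D K) := by
        rw [IsScalarTower.algebraMap_eq D (FractionRing D) K]
        exact (algebraMap (FractionRing D) K).injective.comp (IsFractionRing.injective D (FractionRing D))
      exact (map_eq_zero_iff _ hinj).trans Ideal.Quotient.eq_zero_iff_mem⟩
    rw [← PrimeSpectrum.closure_singleton]
    exact closure_minimal (Set.singleton_subset_iff.2 hgen) G.isClosedMap.isClosed_range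
  · let pt : P := IsLocalRing.closedPoint K
    have hspec : κ pt ⤳ x := by
      rw [specializes_iff_mem_closure]
      have hd : DenseRange κ := Scheme.Hom.denseRange κ
      refine closure_mono ?_ (hd x)
      rintro _ ⟨z, rfl⟩
      rw [show z = pt from Subsingleton.elim _ _]
      rfl
    let r : X.presheaf.stalk x ⟶ CommRingCat.of K :=
      X.presheaf.stalkSpecializes hspec ≫ Scheme.stalkClosedPointTo κ
    obtain ⟨A, hA, hA'⟩ := IsLocalRing.exists_factor_valuationRing r.hom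
    let r' : X.presheaf.stalk x ⟶ CommRingCat.of A := CommRingCat.ofHom (r.hom.codRestrict A.toSubring hA)
    let ξ : Spec (CommRingCat.of A) ⟶ X := Spec.map r' ≫ X.fromSpecStalk x
    let iA : P ⟶ Spec (CommRingCat.of A) := Spec.map (CommRingCat.ofHom (algebraMap A K))
    have hiA : iA ≫ ξ = κ := by
      rw [← Category.assoc, ← Spec.map_comp]
      show Spec.map r ≫ _ = κ
      rw [Spec.map_comp, Category.assoc, Scheme.SpecMap_stalkSpecializes_fromSpecStalk,
        Scheme.Spec_stalkClosedPointTo_fromSpecStalk]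
    have hξx : ξ (IsLocalRing.closedPoint A) = x := by
      rw [Scheme.Hom.comp_apply]
      have e1 : Spec.map r' (IsLocalRing.closedPoint A) = IsLocalRing.closedPoint (X.presheaf.stalk x) :=
        IsLocalRing.comap_closedPoint (S := A) (r.hom.codRestrict A.toSubring hA)
      exact (congrArg (X.fromSpecStalk x) e1).trans X.fromSpecStalk_closedPoint
    obtain ⟨ψ, hψ⟩ : ∃ ψ : R ⟶ CommRingCat.of A, Spec.map ψ = ξ ≫ G := ⟨Spec.preimage _, Spec.map_preimage _⟩
    have hψ' : ψ ≫ CommRingCat.ofHom (algebraMap A K) = CommRingCat.ofHom φ := Spec.map_injective (by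
      rw [Spec.map_comp, hψ, ← Category.assoc, hiA, hG])
    have hR : ∀ z : D, algebraMap D K z ∈ A := fun z => by
      obtain ⟨z, rfl⟩ := Ideal.Quotient.mk_surjective z
      have e := ConcreteCategory.congr_hom hψ' z
      exact (show φ z ∈ A from e ▸ (ψ z).2)
    obtain ⟨c₀, hc₀, hcA⟩ := hT' A hR
    obtain ⟨c, hc⟩ := e.surjective ⟨c₀, hc₀⟩
    have hcA' : ∀ l, (e c).1.2 l ∈ A := hc.symm ▸ hcA
    have hCA : ∀ z : C c, (z : K) ∈ A := by
      rintro ⟨z, hz⟩
      refine Algebra.adjoin_induction (fun y hy => ?_) (fun y => ?_) (fun _ _ _ _ h1 h2 => add_mem h1 h2)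
        (fun _ _ _ _ h1 h2 => mul_mem h1 h2) hz
      · obtain ⟨l, rfl⟩ := hy
        exact hcA' l
      · exact hR (mk y)
    obtain ⟨π, hπp, hπk⟩ := hπ c
    let ζ : Spec (CommRingCat.of A) ⟶ U c :=
      Spec.map (CommRingCat.ofHom ((C c).val.toRingHom.codRestrict A.toSubring hCA))
    haveI := hp c
    haveI : IsDominant iA := ⟨by
      refine (PrimeSpectrum.denseRange_comap_iff_ker_le_nilRadical (algebraMap A K)).2 ?_
      rw [(RingHom.injective_iff_ker_eq_bot _).1 (show Function.Injective (algebraMap A K) from Subtype.val_injective)]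
      exact bot_le⟩
    have heq : ξ ≫ k.imageι ≫ π = ζ ≫ j c := by
      refine ext_of_isDominant_of_isSeparated (p' c) ?_ iA ?_
      · show ((ξ ≫ k.imageι ≫ π) ≫ p' c) = (ζ ≫ j c) ≫ p' c
        simp only [Category.assoc, hπp]
        rw [hjp c, ← Spec.map_comp]
        show ξ ≫ G = _
        rw [← hψ]
        congr 1
        refine CommRingCat.hom_ext (RingHom.ext fun z => Subtype.ext ?_)
        exact ConcreteCategory.congr_hom hψ' z
      · have e1 : iA ≫ ξ ≫ k.imageι ≫ π = u c ≫ j c := by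
          rw [← Category.assoc, hiA, ← Category.assoc κ, Scheme.Hom.toImage_imageι, hπk]
        have hu' : iA ≫ ζ = u c := by
          rw [← Spec.map_comp]
          exact congrArg Spec.map (CommRingCat.hom_ext (RingHom.ext fun _ => rfl))
        exact e1.trans ((congrArg (· ≫ j c) hu').symm.trans (Category.assoc _ _ _))
    haveI := hj c
    let W : X.Opens := (k.imageι ≫ π) ⁻¹ᵁ (j c).opensRange
    refine ⟨W, ?_, (e c).1.1, ?_⟩
    · show (k.imageι ≫ π) x ∈ Set.range (j c)
      rw [← hξx, ← Scheme.Hom.comp_apply, heq, Scheme.Hom.comp_apply]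
      exact ⟨_, rfl⟩
    let l : (W : Scheme.{u}) ⟶ U c := IsOpenImmersion.lift (j c) (W.ι ≫ k.imageι ≫ π) (by
      rintro _ ⟨w, rfl⟩
      exact w.2)
    have hl : W.ι ≫ G = l ≫ g c := by
      have hlj : l ≫ j c = W.ι ≫ k.imageι ≫ π := IsOpenImmersion.lift_fac _ _ _
      rw [← hjp c, reassoc_of% hlj, hπp]
    let τ : C c →+* Γ((W : Scheme.{u}), ⊤) :=
      l.appTop.hom.comp (Scheme.ΓSpecIso (CommRingCat.of (C c))).inv.hom
    refine ⟨fun i => τ ⟨(e c).1.2 i, Algebra.subset_adjoin ⟨i, rfl⟩⟩, fun jj => ?_⟩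
    rw [hl, toΓ_comp, toΓ_SpecMap, ← RingHom.comp_assoc]
    show MvPolynomial.eval₂ (τ.comp (algebraMap R (C c))) _ _ = 0
    rw [← Function.comp_def τ, ← MvPolynomial.eval₂_comp_left, ← map_zero τ]
    congr 1
    apply (show Function.Injective (C c).val from Subtype.val_injective)
    rw [map_zero]
    have e' := hT _ (e c).2 jj
    rw [MvPolynomial.eval₂_map] at e'
    exact (MvPolynomial.eval₂_comp_left (C c).val.toRingHom _ _ _).trans e'

/-- solutions locally on a proper surjection -/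
theorem exists_proper_solutions (h : Good F) :
    ∃ (Y : Scheme.{u}) (g : Y ⟶ Spec R), IsProper g ∧ Surjective g ∧
      ∀ y : Y, ∃ W : Y.Opens, y ∈ W ∧ ∃ (i : ι) (t : Fin (m i) → Γ(W, ⊤)),
        ∀ j, MvPolynomial.eval₂ (toΓ (W.ι ≫ g)) t (F i j) = 0 := by
  let M : Set (Ideal R) := minimalPrimes R
  have hM : M.Finite := minimalPrimes.finite_of_isNoetherianRing R
  suffices key : ∀ s : Finset (Ideal R), ↑s ⊆ M → Covers F (⋃ p ∈ s, PrimeSpectrum.zeroLocus (p : Set R)) by
    obtain ⟨Y, g, hg, hs, hY⟩ := key hM.toFinset (by simp)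
    refine ⟨Y, g, hg, ⟨fun x => hs ?_⟩, hY⟩
    obtain ⟨q, hq, hqx⟩ := Ideal.exists_minimalPrimes_le (I := (⊥ : Ideal R)) (J := x.asIdeal) bot_le
    exact Set.mem_iUnion₂.2 ⟨q, hM.mem_toFinset.2 hq, hqx⟩
  classical
  intro s
  induction s using Finset.induction with
  | empty =>
    intro _
    let g : Spec (CommRingCat.of (R ⧸ (⊤ : Ideal R))) ⟶ Spec R :=
      Spec.map (CommRingCat.ofHom (Ideal.Quotient.mk _))
    haveI : IsClosedImmersion g := IsClosedImmersion.spec_of_surjective _ Ideal.Quotient.mk_surjective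
    refine ⟨_, g, inferInstance, by simp, fun y => ?_⟩
    haveI : Subsingleton (R ⧸ (⊤ : Ideal R)) := Ideal.Quotient.subsingleton_iff.2 rfl
    exact (IsEmpty.false (α := PrimeSpectrum (R ⧸ (⊤ : Ideal R))) y).elim
  | insert p s _ ih =>
    intro hps
    obtain ⟨Y₁, g₁, h₁, hr₁, hY₁⟩ := covers_component F h ⟨p, Ideal.minimalPrimes_isPrime (hps (by simp))⟩
    obtain ⟨Y₂, g₂, h₂, hr₂, hY₂⟩ := ih fun x hx => hps (by simp [hx])
    haveI := Groth.L28.VTop.isProper_coprodDesc g₁ g₂
    refine ⟨Y₁ ⨿ Y₂, coprod.desc g₁ g₂, inferInstance, ?_, fun y => ?_⟩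
    · rw [Finset.set_biUnion_insert]
      rintro x (hx | hx)
      · obtain ⟨y, hy⟩ := hr₁ hx
        exact ⟨(coprod.inl : Y₁ ⟶ Y₁ ⨿ Y₂) y, by rw [← Scheme.Hom.comp_apply, coprod.inl_desc, hy]⟩
      · obtain ⟨y, hy⟩ := hr₂ hx
        exact ⟨(coprod.inr : Y₂ ⟶ Y₁ ⨿ Y₂) y, by rw [← Scheme.Hom.comp_apply, coprod.inr_desc, hy]⟩
    · have move : ∀ {Y' : Scheme.{u}} (c : Y' ⟶ Y₁ ⨿ Y₂) [IsOpenImmersion c] (g' : Y' ⟶ Spec R)
          (_ : c ≫ coprod.desc g₁ g₂ = g') (z : Y'), (∀ y : Y', ∃ W : Y'.Opens, y ∈ W ∧ ∃ (i : ι) (t : Fin (m i) → Γ(W, ⊤)),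
            ∀ j, MvPolynomial.eval₂ (toΓ (W.ι ≫ g')) t (F i j) = 0) →
          ∃ W : (Y₁ ⨿ Y₂).Opens, c z ∈ W ∧ ∃ (i : ι) (t : Fin (m i) → Γ(W, ⊤)),
            ∀ j, MvPolynomial.eval₂ (toΓ (W.ι ≫ coprod.desc g₁ g₂)) t (F i j) = 0 := by
        intro Y' c _ g' hc z hY'
        obtain ⟨W, hzW, i, t, ht⟩ := hY' z
        refine ⟨c ''ᵁ W, ⟨z, hzW, rfl⟩, i, fun k => (c.isoImage W).inv.appTop.hom (t k), fun jj => ?_⟩
        have hb : (c ''ᵁ W).ι ≫ coprod.desc g₁ g₂ = (c.isoImage W).inv ≫ W.ι ≫ g' := by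
          rw [← hc, ← Scheme.Hom.isoImage_inv_ι_assoc]
        rw [hb, toΓ_comp, ← Function.comp_def, ← MvPolynomial.eval₂_comp_left, ht jj, map_zero]
      obtain ⟨(z | z), rfl⟩ := (coprodMk Y₁ Y₂).surjective y
      · rw [coprodMk_inl]
        exact move coprod.inl g₁ (coprod.inl_desc _ _) z hY₁
      · rw [coprodMk_inr]
        exact move coprod.inr g₂ (coprod.inr_desc _ _) z hY₂

end Groth.L23.VRefine

end
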