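import Mathlib.Algebra.MvPolynomial.Eval
import Mathlib.Order.Filter.Ultrafilter.Basic
import Mathlib.Order.Filter.AtTopBot.Basic
import Mathlib.RingTheory.Valuation.ValuationRing
import Mathlib.RingTheory.Valuation.ValuationSubring
import Mathlib.RingTheory.Adjoin.FG
import Mathlib.RingTheory.Ideal.Quotient.Basic
import Mathlib.FieldTheory.IsAlgClosed.AlgebraicClosure
import Mathlib.RingTheory.IntegralClosure.IntegrallyClosed
import Mathlib.Algebra.Ring.Subring.Basic
import Groth.Agent.L23.VRefine.Section

/-!
# Systems of equations solvable over every valuation ring: descent and compactness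
-/

set_option autoImplicit false
set_option linter.style.haveILetI false

universe u

open Polynomial

noncomputable section

namespace Groth.L23.VRefine

variable {R : Type u} [CommRing R] {ι : Type*} {m s : ι → ℕ}

/-- one of the systems of equations has a solution over every valuation ring with monic roots -/
def Good (F : ∀ i, Fin (s i) → MvPolynomial (Fin (m i)) R) : Prop :=
  ∀ (V : Type u) [CommRing V] [IsDomain V] [ValuationRing V], HasMonicRoots V → ∀ ρ : R →+* V,
    ∃ (i : ι) (t : Fin (m i) → V), ∀ j, MvPolynomial.eval₂ ρ t (F i j) = 0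

section Ultra

variable {Λ : Type u} (L : Ultrafilter Λ) (V : Λ → Type u) [∀ l, CommRing (V l)]

/-- families which vanish along an ultrafilter -/
def eventuallyZero : Ideal (∀ l, V l) where
  carrier := {f | ∀ᶠ l in (L : Filter Λ), f l = 0}
  zero_mem' := Filter.Eventually.of_forall fun _ => rfl
  add_mem' hf hg := hf.mp (hg.mono fun l h1 h2 => by simp [h1, h2])
  smul_mem' c f hf := Filter.Eventually.mono hf fun l h => by simp [h]

/-- the ultraproduct -/
abbrev Ulim : Type u := (∀ l, V l) ⧸ eventuallyZero L V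

variable [∀ l, IsDomain (V l)] [∀ l, ValuationRing (V l)]

instance isPrime_eventuallyZero : (eventuallyZero L V).IsPrime where
  ne_top' h := by
    have h1 : ∀ᶠ l in (L : Filter Λ), (1 : V l) = 0 := (h ▸ Submodule.mem_top : (1 : ∀ l, V l) ∈ eventuallyZero L V)
    obtain ⟨l, hl⟩ := h1.exists
    exact one_ne_zero hl
  mem_or_mem' {f g} hfg := Ultrafilter.eventually_or.1 (Filter.Eventually.mono hfg fun l h => mul_eq_zero.1 h)

instance valuationRing_Ulim : ValuationRing (Ulim L V) := by
  classical
  refine ValuationRing.iff_dvd_total.2 ⟨fun a b => ?_⟩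
  obtain ⟨f, rfl⟩ := Ideal.Quotient.mk_surjective a
  obtain ⟨g, rfl⟩ := Ideal.Quotient.mk_surjective b
  rcases Ultrafilter.eventually_or.1 (Filter.Eventually.of_forall
    (fun l => ValuationRing.dvd_total (f l) (g l)) : ∀ᶠ l in (L : Filter Λ), f l ∣ g l ∨ g l ∣ f l) with h | h
  · left
    refine ⟨Ideal.Quotient.mk _ fun l => if hl : f l ∣ g l then hl.choose else 0, ?_⟩
    rw [← map_mul, Ideal.Quotient.eq]
    refine Filter.Eventually.mono h fun l hl => ?_
    show g l - f l * (if hl : f l ∣ g l then hl.choose else 0) = 0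
    rw [dif_pos hl, ← hl.choose_spec, sub_self]
  · right
    refine ⟨Ideal.Quotient.mk _ fun l => if hl : g l ∣ f l then hl.choose else 0, ?_⟩
    rw [← map_mul, Ideal.Quotient.eq]
    refine Filter.Eventually.mono h fun l hl => ?_
    show f l - g l * (if hl : g l ∣ f l then hl.choose else 0) = 0
    rw [dif_pos hl, ← hl.choose_spec, sub_self]

theorem hasMonicRoots_Ulim (h : ∀ l, HasMonicRoots (V l)) : HasMonicRoots (Ulim L V) := by
  intro p hp hn
  choose c hc using fun i : ℕ => Ideal.Quotient.mk_surjective (p.coeff i)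
  let n := p.natDegree
  let q : ∀ l, (V l)[X] := fun l => Polynomial.X ^ n + ∑ i : Fin n, Polynomial.C (c i l) * Polynomial.X ^ (i : ℕ)
  have hdeg : ∀ l, (∑ i : Fin n, Polynomial.C (c i l) * Polynomial.X ^ (i : ℕ)).degree < (n : WithBot ℕ) := fun l =>
    Polynomial.degree_sum_fin_lt _
  choose x hx using fun l => h l (q l) (Polynomial.monic_X_pow_add (hdeg l)) (by
    rw [Polynomial.natDegree_add_eq_left_of_degree_lt (by rw [Polynomial.degree_X_pow]; exact hdeg l),
      Polynomial.natDegree_X_pow]
    exact hn)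
  refine ⟨Ideal.Quotient.mk _ x, ?_⟩
  let z : ∀ l, V l := x ^ n + ∑ i : Fin n, c i * x ^ (i : ℕ)
  have hz : z = 0 := funext fun l => by
    have e : (q l).eval (x l) = z l := by
      simp only [q, z, Polynomial.eval_add, Polynomial.eval_pow, Polynomial.eval_X, Polynomial.eval_finsetSum,
        Polynomial.eval_mul, Polynomial.eval_C, Pi.add_apply, Pi.pow_apply, Finset.sum_apply, Pi.mul_apply]
    exact e.symm.trans (hx l)
  have hp' : p.eval (Ideal.Quotient.mk (eventuallyZero L V) x) = Ideal.Quotient.mk (eventuallyZero L V) z := by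
    conv_lhs => rw [hp.as_sum]
    simp only [z, map_add, map_pow, map_sum, map_mul, hc, Polynomial.eval_add, Polynomial.eval_pow,
      Polynomial.eval_X, Polynomial.eval_finsetSum, Polynomial.eval_mul, Polynomial.eval_C]
    rw [Finset.sum_range (fun i => p.coeff i * Ideal.Quotient.mk (eventuallyZero L V) x ^ i)]
  exact (Polynomial.IsRoot.def).2 (hp'.trans (by rw [hz, map_zero]))

end Ultra

theorem map_subtype_inclusion {n : ℕ} {A B : Subring R} (h : A ≤ B) (G : MvPolynomial (Fin n) A) :
    MvPolynomial.map B.subtype (MvPolynomial.map (Subring.inclusion h) G) = MvPolynomial.map A.subtype G := by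
  rw [MvPolynomial.map_map]
  rfl

/-- solvability over all valuation rings already holds over a subring of finite type -/
theorem exists_good_subring [Finite ι] (F : ∀ i, Fin (s i) → MvPolynomial (Fin (m i)) R) (h : Good F) :
    ∃ (R0 : Subring R) (F0 : ∀ i, Fin (s i) → MvPolynomial (Fin (m i)) R0),
      (∃ S : Finset R, R0 = Subring.closure (S : Set R)) ∧
      (∀ i j, MvPolynomial.map R0.subtype (F0 i j) = F i j) ∧ Good F0 := by
  classical
  haveI := Fintype.ofFinite ι
  let S0 : Finset R := Finset.univ.biUnion fun ij : Σ i, Fin (s i) => (F ij.1 ij.2).coeffs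
  let R00 := Subring.closure (S0 : Set R)
  have hF : ∀ i j, ∃ G : MvPolynomial (Fin (m i)) R00, MvPolynomial.map R00.subtype G = F i j := fun i j => by
    refine RingHom.mem_range.1 (MvPolynomial.mem_range_map_iff_coeffs_subset.2 ?_)
    intro c hc
    exact ⟨⟨c, Subring.subset_closure (Finset.mem_biUnion.2 ⟨⟨i, j⟩, Finset.mem_univ _, hc⟩)⟩, rfl⟩
  choose G hG using hF
  let Rl : Finset R → Subring R := fun l => Subring.closure ((S0 ∪ l : Finset R) : Set R)
  have hle : ∀ l, R00 ≤ Rl l := fun l => Subring.closure_mono (by simp)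
  let Fl : ∀ (l : Finset R) (i : ι), Fin (s i) → MvPolynomial (Fin (m i)) (Rl l) :=
    fun l i j => MvPolynomial.map (Subring.inclusion (hle l)) (G i j)
  by_contra hne
  push Not at hne
  have hbad : ∀ l : Finset R, ¬ Good (Fl l) := fun l => hne (Rl l) (Fl l) ⟨S0 ∪ l, rfl⟩ fun i j => by
    exact (map_subtype_inclusion (hle l) (G i j)).trans (hG i j)
  simp only [Good] at hbad
  push Not at hbad
  choose V iV iD iVR hV ρ hbadρ using hbad
  letI := iV
  haveI := iD
  haveI := iVR
  let L : Ultrafilter (Finset R) := Ultrafilter.of Filter.atTop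
  have hL : ∀ l0 : Finset R, ∀ᶠ l in (L : Filter (Finset R)), l0 ⊆ l := fun l0 =>
    Ultrafilter.of_le _ (Filter.eventually_ge_atTop l0)
  let r : R → ∀ l, V l := fun x l => if hx : x ∈ Rl l then ρ l ⟨x, hx⟩ else 0
  have hmem : ∀ (x : R) (l : Finset R), {x} ⊆ l → x ∈ Rl l := fun x l hl =>
    Subring.subset_closure (by simpa using Or.inr (hl (Finset.mem_singleton_self x)))
  let mk := Ideal.Quotient.mk (eventuallyZero L V)
  let ρ' : R →+* Ulim L V :=
    { toFun := fun x => mk (r x)
      map_one' := (Ideal.Quotient.eq).2 (Filter.Eventually.of_forall fun l => by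
        show r 1 l - 1 = 0
        simp only [r, dif_pos (Rl l).one_mem]
        exact sub_eq_zero.2 (map_one (ρ l)))
      map_zero' := (Ideal.Quotient.eq_zero_iff_mem).2 (Filter.Eventually.of_forall fun l => by
        show r 0 l = 0
        simp only [r, dif_pos (Rl l).zero_mem]
        exact map_zero (ρ l))
      map_add' := fun x y => (map_add mk (r x) (r y)).symm ▸ (Ideal.Quotient.eq).2 ((hL {x}).mp ((hL {y}).mono
        fun l hy hx => by
          show r (x + y) l - (r x l + r y l) = 0
          simp only [r, dif_pos (hmem x l hx), dif_pos (hmem y l hy),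
            dif_pos ((Rl l).add_mem (hmem x l hx) (hmem y l hy)), ← map_add]
          exact sub_self _))
      map_mul' := fun x y => (map_mul mk (r x) (r y)).symm ▸ (Ideal.Quotient.eq).2 ((hL {x}).mp ((hL {y}).mono
        fun l hy hx => by
          show r (x * y) l - (r x l * r y l) = 0
          simp only [r, dif_pos (hmem x l hx), dif_pos (hmem y l hy),
            dif_pos ((Rl l).mul_mem (hmem x l hx) (hmem y l hy)), ← map_mul]
          exact sub_self _)) }
  obtain ⟨i, t, ht⟩ := h (Ulim L V) (hasMonicRoots_Ulim L V hV) ρ'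
  choose t' ht' using fun k => Ideal.Quotient.mk_surjective (t k)
  let ρ00 : R00 →+* ∀ l, V l := Pi.ringHom fun l => (ρ l).comp (Subring.inclusion (hle l))
  have hρ : ρ'.comp R00.subtype = mk.comp ρ00 := RingHom.ext fun x =>
    congrArg mk (funext fun l => dif_pos (hle l x.2))
  have hzero : ∀ j, ∀ᶠ l in (L : Filter (Finset R)), MvPolynomial.eval₂ (ρ l) (fun k => t' k l) (Fl l i j) = 0 := by
    intro j
    have e := ht j
    rw [← hG i j, MvPolynomial.eval₂_map, hρ, show t = mk ∘ t' from funext fun k => (ht' k).symm,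
      ← MvPolynomial.eval₂_comp_left, Ideal.Quotient.eq_zero_iff_mem] at e
    refine Filter.Eventually.mono e fun l hl => ?_
    show MvPolynomial.eval₂ _ _ (MvPolynomial.map _ (G i j)) = 0
    rw [MvPolynomial.eval₂_map, ← hl]
    exact (MvPolynomial.eval₂_comp_left (Pi.evalRingHom V l) ρ00 t' (G i j)).symm
  obtain ⟨l, hl⟩ := (Filter.eventually_all.2 hzero).exists
  obtain ⟨j, hj⟩ := hbadρ l i (fun k => t' k l)
  exact hj (hl j)

/-- over a domain finitely many solutions serve all valuation rings of the algebraic closure -/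
theorem exists_finite_solutions [IsDomain R] (F : ∀ i, Fin (s i) → MvPolynomial (Fin (m i)) R) (h : Good F)
    (K : Type u) [Field K] [IsAlgClosed K] [Algebra R K] :
    ∃ T : Finset (Σ i, Fin (m i) → K),
      (∀ c ∈ T, ∀ j, MvPolynomial.eval₂ (algebraMap R K) c.2 (F c.1 j) = 0) ∧
      ∀ V : ValuationSubring K, (∀ x, algebraMap R K x ∈ V) → ∃ c ∈ T, ∀ k, c.2 k ∈ V := by
  classical
  let Sol := { c : Σ i, Fin (m i) → K // ∀ j, MvPolynomial.eval₂ (algebraMap R K) c.2 (F c.1 j) = 0 }
  by_contra hne
  push Not at hne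
  have hT : ∀ T : Finset Sol, ∃ V : ValuationSubring K, (∀ x, algebraMap R K x ∈ V) ∧
      ∀ c ∈ T, ∃ k, c.1.2 k ∉ V := fun T => by
    obtain ⟨V, hV, hc⟩ := hne (T.map ⟨Subtype.val, Subtype.val_injective⟩) (fun c hc => by
      obtain ⟨⟨c, h'⟩, -, rfl⟩ := Finset.mem_map.1 hc
      exact h')
    exact ⟨V, hV, fun c hc' => hc c.1 (Finset.mem_map_of_mem _ hc')⟩
  choose W hW hbad using hT
  let L : Ultrafilter (Finset Sol) := Ultrafilter.of Filter.atTop
  let A : Subring K :=
    { carrier := {x | ∀ᶠ l in (L : Filter (Finset Sol)), x ∈ W l}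
      mul_mem' := fun hx hy => Filter.Eventually.mp hx (Filter.Eventually.mono hy fun l h1 h2 => mul_mem h2 h1)
      one_mem' := Filter.Eventually.of_forall fun l => one_mem _
      add_mem' := fun hx hy => Filter.Eventually.mp hx (Filter.Eventually.mono hy fun l h1 h2 => add_mem h2 h1)
      zero_mem' := Filter.Eventually.of_forall fun l => zero_mem _
      neg_mem' := fun hx => Filter.Eventually.mono hx fun l h => neg_mem h }
  let V : ValuationSubring K :=
    { A with
      mem_or_inv_mem' := fun x => Ultrafilter.eventually_or.1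
        (Filter.Eventually.of_forall fun l => (W l).mem_or_inv_mem x) }
  let ρ : R →+* V := (algebraMap R K).codRestrict V fun x => Filter.Eventually.of_forall fun l => hW l x
  have hroots : HasMonicRoots V := by
    intro p hp hn
    have hne : (p.map V.subtype).degree ≠ 0 := by
      rw [hp.degree_map, Polynomial.degree_eq_natDegree hp.ne_zero]
      exact_mod_cast hn
    obtain ⟨x, hx⟩ := IsAlgClosed.exists_root (p.map V.subtype) hne
    obtain ⟨y, hy⟩ := IsIntegrallyClosed.isIntegral_iff.1
      (show IsIntegral V x from ⟨p, hp, by rw [← Polynomial.eval_map]; exact hx⟩)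
    refine ⟨y, V.subtype_injective ?_⟩
    rw [map_zero, ← Polynomial.eval₂_at_apply, ← Polynomial.eval_map]
    rw [show V.subtype y = x from hy]
    exact hx
  obtain ⟨i, t, ht⟩ := h V hroots ρ
  let c : Sol := ⟨⟨i, fun k => (t k : K)⟩, fun j => by
    have e := congrArg V.subtype (ht j)
    rw [MvPolynomial.eval₂_comp_left, map_zero] at e
    exact e⟩
  have h1 : ∀ᶠ l in (L : Filter (Finset Sol)), c ∈ l :=
    Filter.Eventually.mono (Ultrafilter.of_le _ (Filter.eventually_ge_atTop ({c} : Finset Sol))) fun l hl => hl (Finset.mem_singleton_self c)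
  have h2 : ∀ᶠ l in (L : Filter (Finset Sol)), ∀ k, (t k : K) ∈ W l := Filter.eventually_all.2 fun k => (t k).2
  obtain ⟨l, hc, hl⟩ := (h1.and h2).exists
  obtain ⟨k, hk⟩ := hbad l c hc
  exact hk (hl k)

end Groth.L23.VRefine

end
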