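import Groth.Agent.L23.VRefine.Tfae
import Groth.Agent.L28.VTop.Sheaf

/-!
# An algebra as a directed colimit of finitely presented algebras
-/

set_option autoImplicit false
set_option backward.defeqAttrib.useBackward true
set_option backward.isDefEq.respectTransparency false
set_option backward.isDefEq.respectTransparency.types false
set_option linter.style.haveILetI false
set_option maxHeartbeats 800000

universe w u

open CategoryTheory CategoryTheory.Limits AlgebraicGeometry Opposite

noncomputable section

namespace Groth.L23.VRefine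

variable {R A : CommRingCat.{u}} (a : R ⟶ A)

/-- the evaluation of polynomials in elements of the algebra -/
abbrev evalA : MvPolynomial A R →+* A := MvPolynomial.eval₂Hom a.hom id

/-- finite data: generators and relations -/
structure Idx : Type u where
  /-- generators -/
  gens : Finset A
  /-- relations -/
  relSet : Finset (RingHom.ker (evalA a))

instance : Preorder (Idx a) where
  le i j := i.gens ⊆ j.gens ∧ i.relSet ⊆ j.relSet
  le_refl i := ⟨subset_rfl, subset_rfl⟩
  le_trans i j k h h' := ⟨h.1.trans h'.1, h.2.trans h'.2⟩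

instance : IsDirectedOrder (Idx a) := ⟨fun i j => by
  classical
  exact ⟨⟨i.gens ∪ j.gens, i.relSet ∪ j.relSet⟩, ⟨Finset.subset_union_left, Finset.subset_union_left⟩,
    ⟨Finset.subset_union_right, Finset.subset_union_right⟩⟩⟩

variable (i : Idx a)

/-- polynomials in the chosen generators -/
abbrev Pol : Type u := MvPolynomial {x // x ∈ i.1} R

/-- inclusion into all polynomials -/
def incl : Pol a i →+* MvPolynomial A R := (MvPolynomial.rename (Subtype.val : {x // x ∈ i.1} → A)).toRingHom

theorem incl_injective : Function.Injective (incl a i) := MvPolynomial.rename_injective _ Subtype.val_injective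

/-- the chosen relations -/
def rels : Set (Pol a i) := incl a i ⁻¹' ((Subtype.val : RingHom.ker (evalA a) → MvPolynomial A R) '' i.2)

theorem finite_rels : (rels a i).Finite :=
  (i.2.finite_toSet.image _).preimage (incl_injective a i).injOn

/-- a stage -/
abbrev Stage : Type u := Pol a i ⧸ Ideal.span (rels a i)

/-- its map to the algebra -/
def toA : Stage a i →+* A :=
  Ideal.Quotient.lift _ ((evalA a).comp (incl a i)) fun x hx => by
    refine (show Ideal.span (rels a i) ≤ RingHom.ker ((evalA a).comp (incl a i)) from Ideal.span_le.2 ?_) hx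
    rintro y ⟨⟨z, hz⟩, -, hzy⟩
    show evalA a (incl a i y) = 0
    rw [← hzy]
    exact hz

variable {i} {j : Idx a}

/-- transition of generators -/
def trPol (h : i ≤ j) : Pol a i →+* Pol a j :=
  (MvPolynomial.rename fun x : {x // x ∈ i.1} => (⟨x.1, h.1 x.2⟩ : {x // x ∈ j.1})).toRingHom

theorem incl_trPol (h : i ≤ j) (p : Pol a i) : incl a j (trPol a h p) = incl a i p := by
  show MvPolynomial.rename _ (MvPolynomial.rename _ p) = _
  rw [MvPolynomial.rename_rename]
  rfl

/-- transition maps -/
def tr (h : i ≤ j) : Stage a i →+* Stage a j :=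
  Ideal.Quotient.lift _ ((Ideal.Quotient.mk _).comp (trPol a h)) fun x hx => by
    refine (show Ideal.span (rels a i) ≤ RingHom.ker ((Ideal.Quotient.mk _).comp (trPol a h)) from
      Ideal.span_le.2 ?_) hx
    rintro y ⟨z, hz, hzy⟩
    show Ideal.Quotient.mk _ (trPol a h y) = 0
    exact Ideal.Quotient.eq_zero_iff_mem.2 (Ideal.subset_span ⟨z, h.2 hz, by rw [incl_trPol]; exact hzy⟩)

theorem toA_tr (h : i ≤ j) (x : Stage a i) : toA a j (tr a h x) = toA a i x := by
  obtain ⟨p, rfl⟩ := Ideal.Quotient.mk_surjective x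
  show evalA a (incl a j (trPol a h p)) = evalA a (incl a i p)
  rw [incl_trPol]

/-- structure maps -/
def toStage (i : Idx a) : R ⟶ CommRingCat.of (Stage a i) :=
  CommRingCat.ofHom ((Ideal.Quotient.mk _).comp MvPolynomial.C)

theorem finitePresentation_toStage (i : Idx a) : (toStage a i).hom.FinitePresentation := by
  haveI : Algebra.FinitePresentation R (Stage a i) :=
    Algebra.FinitePresentation.quotient ⟨(finite_rels a i).toFinset, by simp⟩
  exact RingHom.finitePresentation_algebraMap.2 this

theorem toStage_toA (i : Idx a) : toStage a i ≫ CommRingCat.ofHom (toA a i) = a := by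
  refine CommRingCat.hom_ext (RingHom.ext fun r => ?_)
  show evalA a (MvPolynomial.rename _ (MvPolynomial.C r)) = a r
  rw [MvPolynomial.rename_C]
  exact MvPolynomial.eval₂Hom_C _ _ r

/-- the system -/
def sys : Idx a ⥤ CommRingCat.{u} where
  obj i := CommRingCat.of (Stage a i)
  map h := CommRingCat.ofHom (tr a (leOfHom h))
  map_id i := CommRingCat.hom_ext (Ideal.Quotient.ringHom_ext (RingHom.ext fun p => congrArg (Ideal.Quotient.mk _)
    (incl_injective a i (incl_trPol a _ p))))
  map_comp {i j k} f g := CommRingCat.hom_ext (Ideal.Quotient.ringHom_ext (RingHom.ext fun p =>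
    congrArg (Ideal.Quotient.mk _) (incl_injective a k
      ((incl_trPol a _ p).trans ((incl_trPol a (leOfHom f) p).symm.trans (incl_trPol a (leOfHom g) _).symm)))))

/-- the cocone -/
def sysCocone : Cocone (sys a) where
  pt := A
  ι :=
    { app := fun i => CommRingCat.ofHom (toA a i)
      naturality := fun i j h => CommRingCat.hom_ext (RingHom.ext fun x => toA_tr a (leOfHom h) x) }

theorem nonempty_isColimit : Nonempty (IsColimit (sysCocone a)) := by
  classical
  haveI : Nonempty (Idx a) := ⟨⟨∅, ∅⟩⟩
  haveI : IsFiltered (Idx a) := inferInstance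
  haveI : ReflectsFilteredColimits (forget CommRingCat.{u}) :=
    ⟨fun _ => reflectsColimitsOfShape_of_reflectsIsomorphisms⟩
  refine ReflectsColimit.reflects (F := forget _) (Types.FilteredColimit.isColimitOf' _ _ (fun x => ?_) fun i p q e => ?_)
  · exact ⟨⟨({x} : Finset A), ∅⟩, Ideal.Quotient.mk _ (MvPolynomial.X ⟨x, Finset.mem_singleton_self x⟩),
      ((congrArg (evalA a) (MvPolynomial.rename_X (Subtype.val : {y // y ∈ ({x} : Finset A)} → A)
        ⟨x, Finset.mem_singleton_self x⟩)).trans (MvPolynomial.eval₂Hom_X' _ _ _)).symm⟩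
  · obtain ⟨p, rfl⟩ := Ideal.Quotient.mk_surjective p
    obtain ⟨q, rfl⟩ := Ideal.Quotient.mk_surjective q
    change evalA a (incl a i p) = evalA a (incl a i q) at e
    let z : RingHom.ker (evalA a) := ⟨incl a i (p - q), by rw [RingHom.mem_ker, map_sub, map_sub, e, sub_self]⟩
    let k : Idx a := ⟨i.1, insert z i.2⟩
    have h : i ≤ k := ⟨subset_rfl, Finset.subset_insert _ _⟩
    refine ⟨k, homOfLE h, (Ideal.Quotient.eq).2 (Ideal.subset_span ⟨z, Finset.mem_insert_self _ _, ?_⟩)⟩
    rw [← map_sub, incl_trPol]

theorem exists_system {X Y : Scheme.{u}} [IsAffine X] [IsAffine Y] (f : X ⟶ Y)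
    (hf : HTop.IsStandardV (PreZeroHypercover.singleton.{w} f)) :
    ∃ (I : Type u) (_ : SmallCategory I) (_ : IsCofiltered I) (D : I ⥤ Over Y) (c : Cone D)
      (_ : IsLimit ((Over.forget Y).mapCone c)) (_ : c.pt ≅ Over.mk f),
      (∀ i, IsAffine (D.obj i).left) ∧ ∀ i, HTop.IsHCover (PreZeroHypercover.singleton.{w} (D.obj i).hom) := by
  classical
  let α : Γ(Y, ⊤) ⟶ Γ(X, ⊤) := f.appTop
  haveI : Nonempty (Idx α) := ⟨⟨∅, ∅⟩⟩
  haveI : IsFiltered (Idx α) := inferInstance
  have hcomp : ∀ {i j : Idx α} (h : i ⟶ j), toStage α i ≫ (sys α).map h = toStage α j := fun {i j} h =>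
    CommRingCat.hom_ext (RingHom.ext fun r => congrArg (Ideal.Quotient.mk _) (MvPolynomial.rename_C _ r))
  let D : (Idx α)ᵒᵖ ⥤ Over Y :=
    { obj := fun i => Over.mk (Spec.map (toStage α i.unop) ≫ Y.isoSpec.inv)
      map := fun {i j} h => Over.homMk (Spec.map ((sys α).map h.unop))
        (show _ ≫ Spec.map (toStage α j.unop) ≫ _ = Spec.map (toStage α i.unop) ≫ _ by
          rw [← Category.assoc, ← Spec.map_comp, hcomp h.unop])
      map_id := fun i => Over.OverMorphism.ext (by
        show Spec.map ((sys α).map (𝟙 _)) = 𝟙 _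
        rw [CategoryTheory.Functor.map_id, Spec.map_id])
      map_comp := fun {i j k} f g => Over.OverMorphism.ext (by
        show Spec.map ((sys α).map _) = Spec.map _ ≫ Spec.map _
        rw [← Spec.map_comp, ← Functor.map_comp]
        rfl) }
  let pt : Over Y := Over.mk (Spec.map α ≫ Y.isoSpec.inv)
  let c : Cone D :=
    { pt := pt
      π :=
        { app := fun i => Over.homMk (Spec.map ((sysCocone α).ι.app i.unop))
            (show _ ≫ Spec.map (toStage α i.unop) ≫ _ = Spec.map α ≫ _ by
              rw [← Category.assoc, ← Spec.map_comp]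
              exact congrArg (fun m => Spec.map m ≫ Y.isoSpec.inv) (toStage_toA α i.unop))
          naturality := fun i j h => Over.OverMorphism.ext (by
            show 𝟙 _ ≫ Spec.map ((sysCocone α).ι.app j.unop) = Spec.map ((sysCocone α).ι.app i.unop) ≫ Spec.map _
            rw [Category.id_comp, ← Spec.map_comp, (sysCocone α).w]) } }
  obtain ⟨hcol⟩ := nonempty_isColimit α
  have hlim : IsLimit ((Over.forget Y).mapCone c) :=
    IsLimit.ofIsoLimit (isLimitOfPreserves Scheme.Spec hcol.op) (Cone.ext (Iso.refl _) fun i => by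
      simp [c])
  have hiso : X.isoSpec.inv ≫ f = Spec.map α ≫ Y.isoSpec.inv := by
    rw [Iso.inv_comp_eq, ← Category.assoc, Iso.eq_comp_inv, Scheme.isoSpec_hom, Scheme.isoSpec_hom]
    exact Scheme.toSpecΓ_naturality f
  let e : pt ≅ Over.mk f := Over.isoMk X.isoSpec.symm hiso
  refine ⟨_, inferInstance, inferInstance, D, c, hlim, e, fun i => inferInstanceAs (IsAffine (Spec _)), fun i => ?_⟩
  haveI : LocallyOfFinitePresentation (Spec.map (toStage α i.unop)) :=
    (HasRingHomProperty.Spec_iff (P := @LocallyOfFinitePresentation)).2 (finitePresentation_toStage α i.unop)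
  refine ⟨fun _ => inferInstanceAs (LocallyOfFinitePresentation (Spec.map (toStage α i.unop) ≫ Y.isoSpec.inv)),
    Groth.L28.VTop.isVCover_of_isStandardV ⟨‹_›, inferInstanceAs (Finite PUnit),
      fun _ => inferInstanceAs (IsAffine (Spec _)), fun V _ _ g => ?_⟩⟩
  obtain ⟨W, iW, iW', φ, hφ, j, g', hg'⟩ := hf.lift V g
  refine ⟨W, iW, iW', φ, hφ, PUnit.unit, g' ≫ e.inv.left ≫ (c.π.app i).left, ?_⟩
  have h1 : (e.inv.left ≫ (c.π.app i).left) ≫ (D.obj i).hom = f := by
    rw [Category.assoc]
    erw [Over.w (c.π.app i)]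
    exact Over.w e.inv
  show (g' ≫ e.inv.left ≫ (c.π.app i).left) ≫ (D.obj i).hom = _
  rw [Category.assoc, h1]
  exact hg'

end Groth.L23.VRefine

end
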