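import Groth.Agent.L23.VRefine.Descend
import Groth.Agent.S8976
import Groth.Prelude.Def_HTop
import Mathlib.CategoryTheory.Presentable.Directed
import Mathlib.Algebra.Category.Ring.FilteredColimits

/-!
# Standard V coverings by one affine morphism as limits of ph and h coverings
-/

set_option autoImplicit false
set_option backward.defeqAttrib.useBackward true
set_option backward.isDefEq.respectTransparency false
set_option backward.isDefEq.respectTransparency.types false
set_option linter.style.haveILetI false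
set_option maxHeartbeats 800000

universe w u

open CategoryTheory CategoryTheory.Limits AlgebraicGeometry Opposite

noncomputable section

namespace Groth.L23.VRefine

/-- a point of a finite type algebra in an extension gives a point -/
theorem exists_hom_of_finiteType {R B V W : Type u} [CommRing R] [CommRing B] (a : R →+* B) (ha : a.FiniteType)
    [CommRing V] [IsDomain V] [ValuationRing V] [CommRing W] [IsDomain W] [IsLocalRing W] (hV : HasMonicRoots V)
    (φ : V →+* W) (hinj : Function.Injective φ) (hloc : IsLocalHom φ) (ρ : R →+* V) (χ : B →+* W)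
    (hχ : χ.comp a = φ.comp ρ) : ∃ χ' : B →+* V, χ'.comp a = ρ := by
  letI := a.toAlgebra
  haveI : Algebra.FiniteType R B := ha
  obtain ⟨n, π, hπ⟩ := Algebra.FiniteType.iff_quotient_mvPolynomial''.1 ‹Algebra.FiniteType R B›
  obtain ⟨t', ht'⟩ := exists_solution_of_extension hV φ hinj hloc (fun i => χ (π (MvPolynomial.X i)))
  let ν : MvPolynomial (Fin n) R →+* V := MvPolynomial.eval₂Hom ρ t'
  have hker : RingHom.ker π.toRingHom ≤ RingHom.ker ν := by
    intro q hq
    have e := ht' (MvPolynomial.map ρ q) (by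
      rw [MvPolynomial.eval₂_map, ← hχ, ← Function.comp_def χ, ← MvPolynomial.eval₂_comp_left]
      have h1 : MvPolynomial.eval₂ a (fun i => π (MvPolynomial.X i)) q = π q := by
        conv_rhs => rw [MvPolynomial.aeval_unique π]
        rfl
      rw [h1, show π q = 0 from hq, map_zero])
    rw [MvPolynomial.eval_map] at e
    exact e
  refine ⟨π.toRingHom.liftOfSurjective hπ ⟨ν, hker⟩, RingHom.ext fun r => ?_⟩
  have h1 : π (MvPolynomial.C r) = a r := π.commutes r
  show (π.toRingHom.liftOfSurjective hπ ⟨ν, hker⟩) (a r) = ρ r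
  rw [← h1]
  exact (RingHom.liftOfSurjective_comp_apply _ _ _ _).trans (MvPolynomial.eval₂Hom_C _ _ r)

section Const

variable {Λ : Type u} (L : Ultrafilter Λ) (V : Type u) [CommRing V] [IsDomain V] [ValuationRing V]

/-- the diagonal -/
def diag : CommRingCat.of V ⟶ CommRingCat.of (Ulim L fun _ => V) :=
  CommRingCat.ofHom ((Ideal.Quotient.mk _).comp (Pi.ringHom fun _ => RingHom.id V))

theorem isExtVal_diag : HTop.IsExtVal (CommRingCat.of V) (CommRingCat.of (Ulim L fun _ => V)) (diag L V) := by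
  refine ⟨fun a b hab => ?_, ⟨fun a ha => ?_⟩⟩
  · obtain ⟨l, hl⟩ := Filter.Eventually.exists ((Ideal.Quotient.eq).1 hab :
      ∀ᶠ l in (L : Filter Λ), ((fun _ => a) - fun _ => b : Λ → V) l = 0)
    exact sub_eq_zero.1 hl
  · obtain ⟨c, hc⟩ := isUnit_iff_exists_inv.1 ha
    obtain ⟨c, rfl⟩ := Ideal.Quotient.mk_surjective c
    have h : ∀ᶠ l in (L : Filter Λ), a * c l - 1 = 0 :=
      (Ideal.Quotient.eq).1 (show Ideal.Quotient.mk _ ((fun _ => a) * c) = Ideal.Quotient.mk _ 1 from hc)
    obtain ⟨l, hl⟩ := h.exists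
    exact isUnit_iff_exists_inv.2 ⟨c l, sub_eq_zero.1 hl⟩

end Const

/-- a limit of ph coverings lifts valuation rings -/
theorem hasValLift_of_limit {Y : Scheme.{u}} [IsAffine Y] {I : Type u} [SmallCategory I] [IsCofiltered I]
    (D : I ⥤ Over Y) (c : Cone D) (hc : IsLimit ((Over.forget Y).mapCone c)) (hD : ∀ i, IsAffine (D.obj i).left)
    (hph : ∀ i, HTop.IsPhCover (PreZeroHypercover.singleton.{w} (D.obj i).hom)) (V : CommRingCat.{u}) [IsDomain V]
    [ValuationRing V] (g : Spec V ⟶ Y) :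
    ∃ (W : CommRingCat.{u}) (_ : IsDomain W) (_ : ValuationRing W) (φ : V ⟶ W),
      HTop.IsExtVal V W φ ∧ ∃ g' : Spec W ⟶ c.pt.left, g' ≫ c.pt.hom = Spec.map φ ≫ g := by
  obtain ⟨V', iD, iV, φ₀, hφ₀, hroots⟩ := exists_extension_hasMonicRoots V
  haveI := iD
  haveI := iV
  have hpt : ∀ i, ∃ x : Spec V' ⟶ (D.obj i).left, x ≫ (D.obj i).hom = Spec.map φ₀ ≫ g := by
    intro i
    haveI := hD i
    haveI : LocallyOfFiniteType (D.obj i).hom := (hph i).1 PUnit.unit
    obtain ⟨F, hF, href⟩ := Groth.L28.Ph.refinable_of_isPhCover (hph i) (𝟙 Y)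
    obtain ⟨W, iW, iW', φ, hφ, j, g', hg'⟩ :=
      (Groth.L28.VTop.isStandardV_of_isStandardPh hF).lift V' (Spec.map φ₀ ≫ g)
    haveI := iW
    haveI := iW'
    obtain ⟨⟨⟩, k, hk⟩ := href j
    let q : (D.obj i).left ⟶ Spec Γ(Y, ⊤) := (D.obj i).hom ≫ Y.isoSpec.hom
    have hq : (toΓ q).FiniteType := by
      have h : Spec.map (CommRingCat.ofHom (toΓ q)) = (D.obj i).left.isoSpec.inv ≫ q := by
        conv_rhs => rw [eq_toSpecΓ_toΓ q]
        rw [← Scheme.isoSpec_hom, Iso.inv_hom_id_assoc]
      exact (HasRingHomProperty.Spec_iff (P := @LocallyOfFiniteType)).1 (h ▸ inferInstance)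
    let z : Spec W ⟶ (D.obj i).left := g' ≫ k
    have hz : z ≫ q = Spec.map φ ≫ (Spec.map φ₀ ≫ g ≫ Y.isoSpec.hom) := by
      show (g' ≫ k) ≫ (D.obj i).hom ≫ Y.isoSpec.hom = _
      rw [← Category.assoc (g' ≫ k), Category.assoc g' k]
      erw [hk]
      rw [Category.comp_id, hg']
      simp only [Category.assoc]
    obtain ⟨ρ, hρ⟩ : ∃ ρ : Γ(Y, ⊤) ⟶ V', Spec.map ρ = Spec.map φ₀ ≫ g ≫ Y.isoSpec.hom :=
      ⟨Spec.preimage _, Spec.map_preimage _⟩
    let χ : Γ((D.obj i).left, ⊤) →+* W := (Scheme.ΓSpecIso W).hom.hom.comp z.appTop.hom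
    have hχ : χ.comp (toΓ q) = φ.hom.comp ρ.hom := by
      have e := congrArg toΓ hz
      rw [toΓ_comp, ← hρ, ← Spec.map_comp, toΓ_SpecMap] at e
      ext r
      show (Scheme.ΓSpecIso W).hom.hom (z.appTop.hom (toΓ q r)) = _
      rw [show z.appTop.hom (toΓ q r) = _ from RingHom.congr_fun e r]
      exact Iso.inv_hom_id_apply (C := CommRingCat) _ _
    obtain ⟨χ', hχ'⟩ := exists_hom_of_finiteType (toΓ q) hq hroots φ.hom hφ.1 hφ.2 ρ.hom χ hχ
    refine ⟨Spec.map (CommRingCat.ofHom χ') ≫ (D.obj i).left.isoSpec.inv, ?_⟩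
    rw [← cancel_mono Y.isoSpec.hom, Category.assoc, Category.assoc]
    show _ ≫ _ ≫ q = _
    rw [Category.assoc, ← hρ, eq_toSpecΓ_toΓ q, ← Scheme.isoSpec_hom, Iso.inv_hom_id_assoc, ← Spec.map_comp]
    exact congrArg Spec.map (CommRingCat.hom_ext hχ')
  choose x hx using hpt
  obtain ⟨α, iα, hdir, hne, F, hFin⟩ := IsFiltered.exists_directed Iᵒᵖ
  classical
  let L : Ultrafilter α := Ultrafilter.of Filter.atTop
  have hL : ∀ a : α, ∀ᶠ b in (L : Filter α), a ≤ b := fun a => Ultrafilter.of_le _ (Filter.eventually_ge_atTop a)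
  let U : CommRingCat.{u} := CommRingCat.of (Ulim L fun _ : α => (V' : Type u))
  let mk := Ideal.Quotient.mk (eventuallyZero L fun _ : α => (V' : Type u))
  let X : α → Scheme.{u} := fun a => (D.obj (F.obj a).unop).left
  haveI : ∀ a, IsAffine (X a) := fun a => hD _
  let tr : ∀ {a b : α}, a ≤ b → (X b ⟶ X a) := fun h => (D.map (F.map (homOfLE h)).unop).left
  let y : ∀ (a : α), Γ(X a, ⊤) → (α → V') := fun a s b =>
    if h : a ≤ b then ((x (F.obj b).unop ≫ tr h).appTop ≫ (Scheme.ΓSpecIso V').hom).hom s else 0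
  let P : ∀ a, Γ(X a, ⊤) →+* Ulim L (fun _ : α => (V' : Type u)) := fun a =>
    { toFun := fun s => mk (y a s)
      map_one' := (Ideal.Quotient.eq).2 ((hL a).mono fun b hb => by
        show y a 1 b - 1 = 0
        simp only [y, dif_pos hb, map_one, sub_self])
      map_zero' := (Ideal.Quotient.eq_zero_iff_mem).2 ((hL a).mono fun b hb => by
        show y a 0 b = 0
        simp only [y, dif_pos hb, map_zero])
      map_add' := fun s t => (map_add mk (y a s) (y a t)).symm ▸ (Ideal.Quotient.eq).2 ((hL a).mono fun b hb => by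
        show y a (s + t) b - (y a s b + y a t b) = 0
        simp only [y, dif_pos hb, map_add, sub_self])
      map_mul' := fun s t => (map_mul mk (y a s) (y a t)).symm ▸ (Ideal.Quotient.eq).2 ((hL a).mono fun b hb => by
        show y a (s * t) b - (y a s b * y a t b) = 0
        simp only [y, dif_pos hb, map_mul, sub_self]) }
  let p : ∀ a, Spec U ⟶ X a := fun a => Spec.map (CommRingCat.ofHom (P a)) ≫ (X a).isoSpec.inv
  have hp : ∀ {a b : α} (h : a ≤ b), p b ≫ tr h = p a := by
    intro a b h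
    rw [← cancel_mono (X a).isoSpec.hom, Category.assoc, Category.assoc, Category.assoc, Iso.inv_hom_id,
      Category.comp_id, Scheme.isoSpec_hom (X := X a), Scheme.toSpecΓ_naturality (tr h), ← Scheme.isoSpec_hom (X := X b),
      Iso.inv_hom_id_assoc, ← Spec.map_comp]
    refine congrArg Spec.map (CommRingCat.hom_ext (RingHom.ext fun s => ?_))
    refine (Ideal.Quotient.eq).2 ((hL b).mono fun d hd => ?_)
    show y b ((tr h).appTop.hom s) d - y a s d = 0
    have e : tr hd ≫ tr h = tr (h.trans hd) := by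
      simp only [tr, ← Over.comp_left, ← Functor.map_comp, ← unop_comp]
      rfl
    simp only [y, dif_pos hd, dif_pos (h.trans hd), ← e, ← Category.assoc (x _), Scheme.Hom.comp_appTop,
      CommRingCat.hom_comp, RingHom.comp_apply, sub_self]
  have hover : ∀ a, p a ≫ (D.obj (F.obj a).unop).hom = Spec.map (diag L V') ≫ Spec.map φ₀ ≫ g := by
    intro a
    rw [← cancel_mono Y.isoSpec.hom, Category.assoc, Category.assoc, Category.assoc, Category.assoc,
      Scheme.isoSpec_hom (X := Y), Scheme.toSpecΓ_naturality (D.obj (F.obj a).unop).hom,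
      ← Scheme.isoSpec_hom (X := X a), Iso.inv_hom_id_assoc, ← Spec.map_comp]
    have e : g ≫ Y.toSpecΓ = (Spec V).toSpecΓ ≫ Spec.map g.appTop := Scheme.toSpecΓ_naturality g
    rw [e, ← SpecMap_ΓSpecIso_hom, ← Spec.map_comp, ← Spec.map_comp, ← Spec.map_comp]
    refine congrArg Spec.map (CommRingCat.hom_ext (RingHom.ext fun s => ?_))
    refine (Ideal.Quotient.eq).2 ((hL a).mono fun d hd => ?_)
    show y a ((D.obj (F.obj a).unop).hom.appTop.hom s) d -
      φ₀.hom ((Scheme.ΓSpecIso V).hom.hom (g.appTop.hom s)) = 0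
    have e2 : (x (F.obj d).unop ≫ tr hd) ≫ (D.obj (F.obj a).unop).hom = Spec.map φ₀ ≫ g := by
      rw [Category.assoc, Over.w, hx]
    have e3 := RingHom.congr_fun (congrArg (fun m : Spec V' ⟶ Y => (m.appTop ≫ (Scheme.ΓSpecIso V').hom).hom) e2) s
    simp only [Scheme.Hom.comp_appTop, Category.assoc, Scheme.ΓSpecIso_naturality, CommRingCat.hom_comp,
      RingHom.comp_apply] at e3
    simp only [y, dif_pos hd, Scheme.Hom.comp_appTop, Category.assoc, CommRingCat.hom_comp, RingHom.comp_apply]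
    rw [e3]
    exact sub_self _
  let G : αᵒᵖ ⥤ I := F.op ⋙ (unopUnop I)
  haveI : G.Initial := Functor.initial_comp _ _
  let cone : Cone (G ⋙ D ⋙ Over.forget Y) :=
    { pt := Spec U
      π :=
        { app := fun a => p a.unop
          naturality := fun a b h => by
            show 𝟙 _ ≫ p b.unop = p a.unop ≫ _
            rw [Category.id_comp, ← hp (leOfHom h.unop)]
            rfl } }
  have hG := (Functor.Initial.isLimitWhiskerEquiv G _).symm hc
  let l : Spec U ⟶ c.pt.left := hG.lift cone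
  obtain ⟨a⟩ := hne
  refine ⟨U, inferInstanceAs (IsDomain (Ulim L _)), inferInstanceAs (ValuationRing (Ulim L _)), φ₀ ≫ diag L V',
    Groth.L28.VTop.isExtVal_comp hφ₀ (isExtVal_diag L V'), l, ?_⟩
  rw [show c.pt.hom = (c.π.app (F.obj a).unop).left ≫ (D.obj (F.obj a).unop).hom from
    (Over.w (c.π.app (F.obj a).unop)).symm]
  erw [reassoc_of% (hG.fac cone (op a))]
  exact (hover a).trans (by rw [Spec.map_comp, Category.assoc])

end Groth.L23.VRefine

end
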